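import Mathlib.Algebra.BigOperators.Fin
import Mathlib.Algebra.Order.BigOperators.Ring.Finset
import Mathlib.Data.Fintype.BigOperators
import Mathlib.Tactic

/-!
# Integral matrices with Gram matrix `1 + e J`

Such a matrix without zero row has at most `e + m` rows, `m` the number of columns
(`card_le_of_gram`); for `e = 2, 3` equality holds up to a few small configurations
(`card_cases_of_gram`).
-/

set_option autoImplicit false
set_option linter.unusedSectionVars false

namespace CfsgLib.FreeInertia

variable {ι O : Type*} [Fintype ι] [Fintype O] [DecidableEq O] {X : ι → O → ℤ} {e : ℕ}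
  (hrow : ∀ η, ∃ o, X η o ≠ 0)
  (hgram : ∀ o o', ∑ η, X η o * X η o' = (if o = o' then 1 else 0) + (e : ℤ))

include hrow hgram

theorem card_le_of_gram [Nonempty O] : Fintype.card ι ≤ e + Fintype.card O := by
  obtain ⟨n, hn⟩ : ∃ n, Fintype.card O = n + 1 :=
    Nat.exists_eq_succ_of_ne_zero Fintype.card_ne_zero
  set ψ : Fin (n + 1) ≃ O := (finCongr hn.symm).trans (Fintype.equivFin O).symm
  let q : ι → ℤ := fun η =>
    ∑ i, X η (ψ i) * X η (ψ i) - ∑ i : Fin n, X η (ψ i.castSucc) * X η (ψ i.succ)
  have hq : ∀ η, 1 ≤ q η := by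
    intro η
    have h2 : 2 * q η = X η (ψ 0) ^ 2 + X η (ψ (Fin.last n)) ^ 2 +
        ∑ i : Fin n, (X η (ψ i.castSucc) - X η (ψ i.succ)) ^ 2 := by
      have e1 := Fin.sum_univ_succ (fun i => X η (ψ i) * X η (ψ i))
      have e2 := Fin.sum_univ_castSucc (fun i => X η (ψ i) * X η (ψ i))
      have e3 : ∑ i : Fin n, (X η (ψ i.castSucc) - X η (ψ i.succ)) ^ 2 =
          ∑ i : Fin n, X η (ψ i.castSucc) * X η (ψ i.castSucc) +
            ∑ i : Fin n, X η (ψ i.succ) * X η (ψ i.succ) -
            2 * ∑ i : Fin n, X η (ψ i.castSucc) * X η (ψ i.succ) := by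
        rw [Finset.mul_sum, ← Finset.sum_add_distrib, ← Finset.sum_sub_distrib]
        exact Finset.sum_congr rfl fun i _ => by ring
      simp only [q]
      linarith [e1, e2, e3]
    by_contra hlt
    push Not at hlt
    have hzero : X η (ψ 0) ^ 2 + X η (ψ (Fin.last n)) ^ 2 +
        ∑ i : Fin n, (X η (ψ i.castSucc) - X η (ψ i.succ)) ^ 2 ≤ 0 := by
      rw [← h2]; linarith
    have hs : 0 ≤ ∑ i : Fin n, (X η (ψ i.castSucc) - X η (ψ i.succ)) ^ 2 :=
      Finset.sum_nonneg fun i _ => sq_nonneg _
    have h0 : X η (ψ 0) = 0 := by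
      nlinarith [sq_nonneg (X η (ψ 0)), sq_nonneg (X η (ψ (Fin.last n)))]
    have hs0 : ∑ i : Fin n, (X η (ψ i.castSucc) - X η (ψ i.succ)) ^ 2 = 0 := by
      nlinarith [sq_nonneg (X η (ψ 0)), sq_nonneg (X η (ψ (Fin.last n)))]
    have hall : ∀ i : Fin (n + 1), X η (ψ i) = 0 := by
      intro i
      induction i using Fin.induction with
      | zero => exact h0
      | succ j ih =>
        have := (Finset.sum_eq_zero_iff_of_nonneg fun i _ => sq_nonneg _).1 hs0 j
          (Finset.mem_univ j)
        rw [sq_eq_zero_iff, ih, zero_sub, neg_eq_zero] at this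
        exact this
    obtain ⟨o, ho⟩ := hrow η
    exact ho (by simpa using hall (ψ.symm o))
  have hsum : ∑ η, q η = (e : ℤ) + (n + 1) := by
    simp only [q, Finset.sum_sub_distrib]
    rw [Finset.sum_comm, Finset.sum_comm (s := Finset.univ) (t := (Finset.univ : Finset (Fin n)))]
    simp only [hgram]
    simp [Fin.castSucc_lt_succ.ne, ψ.injective.eq_iff]
    ring
  have h : (Fintype.card ι : ℤ) ≤ (e : ℤ) + (n + 1) := by
    rw [← hsum, ← Finset.card_univ, Finset.card_eq_sum_ones, Nat.cast_sum]
    exact Finset.sum_le_sum fun η _ => by exact_mod_cast hq η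
  rw [hn]
  exact_mod_cast h

open Classical in
/-- The configurations for `e = 2, 3`. -/
theorem card_cases_of_gram [Nonempty O] (he : e = 2 ∨ e = 3) (hι : 2 ≤ Fintype.card ι) :
    Fintype.card ι = e + Fintype.card O ∨
      (3 ≤ Fintype.card O ∧ Fintype.card O ≤ e + 1) ∨
      (Fintype.card O = e + 2 ∧ ∀ η, ((e : ℤ) + 1) ∣ ∑ o, X η o) := by
  let S : O → Finset ι := fun o => Finset.univ.filter fun η => X η o ≠ 0
  have hSm : ∀ {o η}, η ∈ S o ↔ X η o ≠ 0 := fun {o η} => by simp [S]
  have hnorm : ∀ o, ∑ η, X η o * X η o = 1 + (e : ℤ) := fun o => by rw [hgram, if_pos rfl]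
  have hunion : ∀ η, η ∈ Finset.univ.biUnion S := fun η => by
    obtain ⟨o, ho⟩ := hrow η
    exact Finset.mem_biUnion.2 ⟨o, Finset.mem_univ o, hSm.2 ho⟩
  -- no entry of absolute value two
  have hsmall : ∀ η o, X η o = 0 ∨ X η o = 1 ∨ X η o = -1 ∨
      (e = 3 ∧ X η o * X η o = 4 ∧ ∀ θ, θ ≠ η → X θ o = 0) := by
    intro η o
    have h := hnorm o
    rw [← Finset.add_sum_erase _ _ (Finset.mem_univ η)] at h
    have hr : 0 ≤ ∑ θ ∈ Finset.univ.erase η, X θ o * X θ o :=
      Finset.sum_nonneg fun θ _ => mul_self_nonneg _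
    have he3 : (e : ℤ) ≤ 3 := by rcases he with rfl | rfl <;> norm_num
    have hb1 : -2 ≤ X η o := by nlinarith
    have hb2 : X η o ≤ 2 := by nlinarith
    have h4 : X η o * X η o = 4 →
        e = 3 ∧ X η o * X η o = 4 ∧ ∀ θ, θ ≠ η → X θ o = 0 := by
      intro hx
      refine ⟨?_, hx, fun θ hθ => ?_⟩
      · rcases he with rfl | rfl
        · exfalso; push_cast at h; linarith
        · rfl
      · have hz : ∑ θ ∈ Finset.univ.erase η, X θ o * X θ o = 0 := by linarith
        exact mul_self_eq_zero.1 ((Finset.sum_eq_zero_iff_of_nonneg fun θ _ => mul_self_nonneg _).1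
          hz θ (Finset.mem_erase.2 ⟨hθ, Finset.mem_univ θ⟩))
    interval_cases hX : X η o
    · exact Or.inr (Or.inr (Or.inr (h4 (by norm_num))))
    · exact Or.inr (Or.inr (Or.inl rfl))
    · exact Or.inl rfl
    · exact Or.inr (Or.inl rfl)
    · exact Or.inr (Or.inr (Or.inr (h4 (by norm_num))))
  have hunit : ∀ o η, X η o = 0 ∨ X η o = 1 ∨ X η o = -1 := by
    intro o η
    rcases hsmall η o with h | h | h | ⟨he3, hx, hother⟩
    · exact Or.inl h
    · exact Or.inr (Or.inl h)
    · exact Or.inr (Or.inr h)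
    exfalso
    subst he3
    by_cases h2 : ∃ o', o' ≠ o
    · obtain ⟨o', ho'⟩ := h2
      have h := hgram o o'
      rw [if_neg ho'.symm, Finset.sum_eq_single η (fun θ _ hθ => by rw [hother θ hθ, zero_mul])
        (by simp)] at h
      have hd : (2 : ℤ) ∣ X η o := by
        have hb1 : -2 ≤ X η o := by nlinarith
        have hb2 : X η o ≤ 2 := by nlinarith
        interval_cases hX : X η o <;> omega
      have h5 : (2 : ℤ) ∣ 3 := by
        refine ⟨X η o / 2 * X η o', ?_⟩
        rw [← mul_assoc, Int.mul_ediv_cancel' hd, h]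
        norm_num
      norm_num at h5
    · push Not at h2
      have : Finset.univ ⊆ ({η} : Finset ι) := fun θ _ => Finset.mem_singleton.2 (by
        by_contra hne
        obtain ⟨o', ho'⟩ := hrow θ
        rw [h2 o'] at ho'
        exact ho' (hother θ hne))
      have := Finset.card_le_card this
      rw [Finset.card_univ, Finset.card_singleton] at this
      omega
  have hcard : ∀ o, (S o).card = e + 1 := by
    intro o
    have h := hnorm o
    rw [← Finset.sum_filter_of_ne (p := fun η => X η o ≠ 0) (fun η _ hne => by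
      intro h0; exact hne (by rw [h0, zero_mul]))] at h
    rw [Finset.sum_congr rfl (g := fun _ => (1 : ℤ)) (fun η hη => by
      rcases hunit o η with h' | h' | h'
      · exact absurd h' (Finset.mem_filter.1 hη).2
      all_goals rw [h']; norm_num), Finset.sum_const, nsmul_eq_mul, mul_one] at h
    have : ((S o).card : ℤ) = ((e + 1 : ℕ) : ℤ) := by push_cast; linarith [h]
    exact_mod_cast this
  -- two columns
  have hpair : ∀ o o', o ≠ o' → (S o ∩ S o').card = e ∧ ∀ η ∈ S o ∩ S o', X η o = X η o' := by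
    intro o o' hne
    have h := hgram o o'
    rw [if_neg hne, zero_add, ← Finset.sum_subset (Finset.subset_univ (S o ∩ S o')) (fun η _ hη => by
      by_contra hx
      exact hη (Finset.mem_inter.2 ⟨hSm.2 (left_ne_zero_of_mul hx),
        hSm.2 (right_ne_zero_of_mul hx)⟩))] at h
    set I := S o ∩ S o'
    set neg := I.filter fun η => X η o ≠ X η o'
    have hval : ∀ η ∈ I, X η o * X η o' = 1 - 2 * (if X η o ≠ X η o' then (1 : ℤ) else 0) := by
      intro η hη
      have h1 := hSm.1 (Finset.mem_inter.1 hη).1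
      have h2 := hSm.1 (Finset.mem_inter.1 hη).2
      rcases hunit o η with a | a | a <;> rcases hunit o' η with b | b | b <;>
        simp_all
    rw [Finset.sum_congr rfl hval, Finset.sum_sub_distrib, ← Finset.mul_sum, ← Finset.sum_filter,
      Finset.sum_const, Finset.sum_const, nsmul_eq_mul, nsmul_eq_mul, mul_one, mul_one] at h
    have hIle : I.card ≤ e + 1 := (hcard o) ▸ Finset.card_le_card Finset.inter_subset_left
    have hn : neg.card = 0 := by
      have h' : I.card = e + 2 * neg.card := by
        have : (I.card : ℤ) = (e : ℤ) + 2 * (neg.card : ℤ) := by linarith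
        exact_mod_cast this
      omega
    refine ⟨?_, fun η hη => ?_⟩
    · have : (I.card : ℤ) = (e : ℤ) + 2 * (neg.card : ℤ) := by linarith
      rw [hn] at this
      simpa using this
    · by_contra hx
      exact Finset.notMem_empty η (Finset.card_eq_zero.1 hn ▸ Finset.mem_filter.2 ⟨hη, hx⟩)
  by_cases hone : ∀ o o' : O, o = o'
  · left
    obtain ⟨o⟩ := ‹Nonempty O›
    rw [Fintype.card_eq_one_iff.2 ⟨o, fun x => hone x o⟩, ← hcard o, ← Finset.card_univ]
    congr 1
    refine (Finset.eq_univ_iff_forall.2 fun η => ?_).symm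
    obtain ⟨o', ho'⟩ := hrow η
    exact hSm.2 (hone o' o ▸ ho')
  push Not at hone
  obtain ⟨o₁, o₂, h12⟩ := hone
  set C := S o₁ ∩ S o₂
  set U := S o₁ ∪ S o₂
  have hC : C.card = e := (hpair o₁ o₂ h12).1
  have hU : U.card = e + 2 := by
    have := Finset.card_union_add_card_inter (S o₁) (S o₂)
    rw [hcard, hcard] at this
    change U.card + C.card = _ at this
    omega
  have hSne : ∀ o o', S o = S o' → o = o' := fun o o' h => by
    by_contra hne
    have := (hpair o o' hne).1
    rw [h, Finset.inter_self, hcard] at this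
    omega
  by_cases hcore : ∀ o, C ⊆ S o
  · left
    have h1 : ∀ o, ∃ z, z ∉ C ∧ S o = insert z C := fun o => by
      obtain ⟨z, hz⟩ : ∃ z, S o \ C = {z} := Finset.card_eq_one.1 (by
        rw [Finset.card_sdiff_of_subset (hcore o), hcard, hC]; omega)
      refine ⟨z, fun hzC => ?_, ?_⟩
      · have := (hz ▸ Finset.mem_singleton_self z : z ∈ S o \ C)
        exact (Finset.mem_sdiff.1 this).2 hzC
      · rw [Finset.insert_eq, ← hz, Finset.sdiff_union_of_subset (hcore o)]
    choose z hzC hz using h1
    have hzi : Function.Injective z := fun o o' h => hSne o o' (by rw [hz, hz o', h])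
    have huniv : (Finset.univ : Finset ι) = C ∪ Finset.univ.image z := by
      refine (Finset.eq_univ_iff_forall.2 fun η => ?_).symm
      obtain ⟨o, -, ho⟩ := Finset.mem_biUnion.1 (hunion η)
      rw [hz o, Finset.mem_insert] at ho
      rcases ho with rfl | ho
      · exact Finset.mem_union_right _ (Finset.mem_image_of_mem _ (Finset.mem_univ o))
      · exact Finset.mem_union_left _ ho
    rw [← Finset.card_univ, huniv, Finset.card_union_of_disjoint, hC,
      Finset.card_image_of_injective _ hzi, Finset.card_univ]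
    rw [Finset.disjoint_right]
    intro η hη
    obtain ⟨o, -, rfl⟩ := Finset.mem_image.1 hη
    exact hzC o
  right
  push Not at hcore
  obtain ⟨o₃, h3⟩ := hcore
  have hin : ∀ o, ¬ C ⊆ S o → S o ⊆ U := by
    intro o ho
    have hne1 : o ≠ o₁ := by rintro rfl; exact ho Finset.inter_subset_left
    have hne2 : o ≠ o₂ := by rintro rfl; exact ho Finset.inter_subset_right
    have hCo : (C ∩ S o).card < e := hC ▸ Finset.card_lt_card
      (lt_of_le_of_ne Finset.inter_subset_left fun h => ho (h ▸ Finset.inter_subset_right))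
    have h1 := (hpair o o₁ hne1).1
    have h2 := (hpair o o₂ hne2).1
    have h4 := Finset.card_union_add_card_inter (S o ∩ S o₁) (S o ∩ S o₂)
    rw [show S o ∩ S o₁ ∪ S o ∩ S o₂ = S o ∩ U by rw [Finset.inter_union_distrib_left],
      show (S o ∩ S o₁) ∩ (S o ∩ S o₂) = C ∩ S o by
        ext x; simp only [C, Finset.mem_inter]; tauto, h1, h2] at h4
    have h5 : (S o).card ≤ (S o ∩ U).card := by rw [hcard]; omega
    exact Finset.inter_eq_left.1 (Finset.eq_of_subset_of_card_le Finset.inter_subset_left h5)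
  have hall : ∀ o, S o ⊆ U := by
    intro o
    by_cases ho : C ⊆ S o
    swap
    · exact hin o ho
    intro x hx
    by_contra hxU
    have hne3 : o ≠ o₃ := by rintro rfl; exact h3 ho
    have hxC : x ∉ C := fun h => hxU (Finset.mem_union_left _ (Finset.mem_inter.1 h).1)
    have heq : S o = insert x C := by
      refine (Finset.eq_of_subset_of_card_le (Finset.insert_subset hx ho) ?_).symm
      rw [hcard, Finset.card_insert_of_notMem hxC, hC]
    have hsub : S o ∩ S o₃ ⊂ C := by
      refine Finset.ssubset_iff_subset_ne.2 ⟨fun y hy => ?_, fun he' => h3 ?_⟩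
      · obtain ⟨hy1, hy2⟩ := Finset.mem_inter.1 hy
        rw [heq, Finset.mem_insert] at hy1
        rcases hy1 with rfl | hy1
        · exact absurd (hin o₃ h3 hy2) hxU
        · exact hy1
      · rw [← he']; exact Finset.inter_subset_right
    have := Finset.card_lt_card hsub
    rw [(hpair o o₃ hne3).1, hC] at this
    omega
  have hmiss : ∀ o, ∃ z, U \ S o = {z} := fun o => Finset.card_eq_one.1 (by
    rw [Finset.card_sdiff_of_subset (hall o), hU, hcard]; omega)
  choose z hz using hmiss
  have hzi : Function.Injective z := fun o o' h => hSne o o' (by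
    rw [← Finset.sdiff_sdiff_eq_self (hall o), ← Finset.sdiff_sdiff_eq_self (hall o'), hz, hz, h])
  have hzU : Finset.univ.image z ⊆ U := fun y hy => by
    obtain ⟨o, -, rfl⟩ := Finset.mem_image.1 hy
    exact (Finset.mem_sdiff.1 (hz o ▸ Finset.mem_singleton_self (z o) : z o ∈ U \ S o)).1
  have hm : Fintype.card O ≤ e + 2 := by
    rw [← hU, ← Finset.card_univ, ← Finset.card_image_of_injective _ hzi]
    exact Finset.card_le_card hzU
  have hge : 3 ≤ Fintype.card O := by
    have h13 : o₃ ≠ o₁ := by rintro rfl; exact h3 Finset.inter_subset_left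
    have h23 : o₃ ≠ o₂ := by rintro rfl; exact h3 Finset.inter_subset_right
    rw [← Finset.card_univ]
    refine le_trans (le_of_eq ?_) (Finset.card_le_card (Finset.subset_univ {o₁, o₂, o₃}))
    rw [Finset.card_insert_of_notMem (by simp [h12, h13.symm]),
      Finset.card_pair h23.symm]
  rcases hm.lt_or_eq with hlt | heq
  · exact Or.inl ⟨hge, by omega⟩
  refine Or.inr ⟨heq, fun η => ?_⟩
  have himg : Finset.univ.image z = U := Finset.eq_of_subset_of_card_le hzU (by
    rw [hU, Finset.card_image_of_injective _ hzi, Finset.card_univ, heq])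
  obtain ⟨o, ho⟩ := hrow η
  have hηU : η ∈ U := hall o (hSm.2 ho)
  obtain ⟨o₀, -, hz₀⟩ := Finset.mem_image.1 (himg.symm ▸ hηU : η ∈ Finset.univ.image z)
  have hothers : ∀ o', o' ≠ o₀ → X η o' = X η o := by
    intro o' ho'
    have hmem : η ∈ S o' := by
      by_contra hn
      exact ho' (hzi (hz₀ ▸ (Finset.mem_singleton.1 (hz o' ▸ Finset.mem_sdiff.2 ⟨hηU, hn⟩)).symm))
    by_cases heq' : o' = o
    · rw [heq']
    · exact ((hpair o' o heq').2 η (Finset.mem_inter.2 ⟨hmem, hSm.2 ho⟩))
  have hzero : X η o₀ = 0 := by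
    by_contra hne
    have h' : z o₀ ∈ U \ S o₀ := hz o₀ ▸ Finset.mem_singleton_self (z o₀)
    rw [hz₀] at h'
    exact (Finset.mem_sdiff.1 h').2 (hSm.2 hne)
  rw [← Finset.add_sum_erase _ _ (Finset.mem_univ o₀), hzero, zero_add,
    Finset.sum_congr rfl fun o' ho' => hothers o' (Finset.mem_erase.1 ho').1, Finset.sum_const,
    Finset.card_erase_of_mem (Finset.mem_univ _), Finset.card_univ, heq, nsmul_eq_mul]
  exact ⟨X η o, by push_cast [Nat.add_sub_cancel]; ring⟩

end CfsgLib.FreeInertia
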