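import Cfsg.Agent.FreeInertia.PGen

/-!
# The orbits of a freely acting group of automorphisms on the dual

`exists_orbit_reps` gives representatives of the orbits on the non-principal linear characters,
`sum_orbit_sum_mul` the Gram matrix of the orbit sums shifted by their value at one.
-/

set_option autoImplicit false
set_option linter.unusedSectionVars false

namespace CfsgLib.FreeInertia

open scoped ComplexConjugate

universe u

variable {A : Type u} [CommGroup A] [Fintype A] (E : Subgroup (MulAut A)) [Fintype E]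

/-- Composition with an automorphism. -/
def pre (σ : MulAut A) (l : A →* ℂˣ) : A →* ℂˣ := l.comp σ.toMonoidHom

theorem pre_apply (σ : MulAut A) (l : A →* ℂˣ) (a : A) : pre σ l a = l (σ a) := rfl

theorem pre_one (l : A →* ℂˣ) : pre 1 l = l := rfl

theorem pre_pre (σ τ : MulAut A) (l : A →* ℂˣ) : pre σ (pre τ l) = pre (τ * σ) l := rfl

theorem pre_ne_one (σ : MulAut A) {l : A →* ℂˣ} (hl : l ≠ 1) : pre σ l ≠ 1 := fun h =>
  hl (MonoidHom.ext fun a => by simpa [pre_apply] using DFunLike.congr_fun h (σ⁻¹ a))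

variable {E} (hsemi : ∀ σ ∈ E, ∀ a, a ≠ 1 → σ a = a → σ = 1)

include hsemi

theorem pre_eq_self {σ : MulAut A} (hσ : σ ∈ E) {l : A →* ℂˣ} (hl : l ≠ 1) (h : pre σ l = l) :
    σ = 1 := by
  by_contra hne
  have hinj : Function.Injective fun a : A => a⁻¹ * σ a := by
    intro a b hab
    by_contra hab'
    refine hne (hsemi σ hσ (a * b⁻¹) (fun h1 => hab' (mul_inv_eq_one.1 h1)) ?_)
    have hab1 : a⁻¹ * σ a = b⁻¹ * σ b := hab
    rw [map_mul, map_inv, show σ a = a * (b⁻¹ * σ b) by rw [← hab1, mul_inv_cancel_left],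
      ← mul_assoc, mul_inv_cancel_right]
  refine hl (MonoidHom.ext fun a => ?_)
  obtain ⟨v, rfl⟩ := Finite.injective_iff_surjective.1 hinj a
  show l (v⁻¹ * σ v) = 1
  rw [map_mul, map_inv, ← pre_apply, h, inv_mul_cancel]

theorem pre_injective {σ τ : MulAut A} (hσ : σ ∈ E) (hτ : τ ∈ E) {l : A →* ℂˣ} (hl : l ≠ 1)
    (h : pre σ l = pre τ l) : σ = τ := by
  have h2 := congrArg (pre τ⁻¹) h
  rw [pre_pre, pre_pre, mul_inv_cancel, pre_one] at h2
  exact mul_inv_eq_one.1 (pre_eq_self hsemi (mul_mem hσ (inv_mem hτ)) hl h2)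

open Classical in
/-- Representatives of the orbits. -/
theorem exists_orbit_reps :
    ∃ R : Finset (A →* ℂˣ), (∀ r ∈ R, r ≠ 1) ∧ R.card * Nat.card E + 1 = Nat.card A ∧
      (∀ r ∈ R, ∀ r' ∈ R, ∀ σ ∈ E, ∀ τ ∈ E, pre σ r = pre τ r' → r = r' ∧ σ = τ) ∧
      ∀ l, l ≠ 1 → ∃ r ∈ R, ∃ σ ∈ E, pre σ r = l := by
  let st : Setoid (A →* ℂˣ) :=
    { r := fun l l' => ∃ σ ∈ E, pre σ l = l'
      iseqv :=
        { refl := fun l => ⟨1, one_mem E, pre_one l⟩
          symm := fun {l l'} ⟨σ, hσ, he⟩ => ⟨σ⁻¹, inv_mem hσ, by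
            rw [← he, pre_pre, mul_inv_cancel, pre_one]⟩
          trans := fun {l l' l''} ⟨σ, hσ, he⟩ ⟨τ, hτ, he'⟩ => ⟨σ * τ, mul_mem hσ hτ, by
            rw [← he', ← he, pre_pre]⟩ } }
  let f : (A →* ℂˣ) → (A →* ℂˣ) := fun l => (Quotient.mk st l).out
  have hrel : ∀ l, ∃ σ ∈ E, pre σ (f l) = l := fun l => Quotient.mk_out (s := st) l
  have hcls : ∀ σ ∈ E, ∀ l, f (pre σ l) = f l := fun σ hσ l =>
    congrArg Quotient.out (Quotient.sound (s := st) (show st.r (pre σ l) l from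
      ⟨σ⁻¹, inv_mem hσ, by rw [pre_pre, mul_inv_cancel, pre_one]⟩))
  have hidem : ∀ l, f (f l) = f l := fun l => congrArg Quotient.out (Quotient.out_eq _)
  set R := (Finset.univ.filter fun l : A →* ℂˣ => l ≠ 1).image f with hR
  have hR1 : ∀ r ∈ R, r ≠ 1 := by
    intro r hr
    obtain ⟨l, hl, rfl⟩ := Finset.mem_image.1 hr
    obtain ⟨σ, -, he⟩ := hrel l
    intro h1
    exact (Finset.mem_filter.1 hl).2 (by rw [← he, h1]; rfl)
  have hfix : ∀ r ∈ R, f r = r := by
    intro r hr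
    obtain ⟨l, -, rfl⟩ := Finset.mem_image.1 hr
    exact hidem l
  have huniq : ∀ r ∈ R, ∀ r' ∈ R, ∀ σ ∈ E, ∀ τ ∈ E, pre σ r = pre τ r' → r = r' ∧ σ = τ := by
    intro r hr r' hr' σ hσ τ hτ he
    have h : r = r' := by rw [← hfix r hr, ← hfix r' hr', ← hcls σ hσ r, he, hcls τ hτ r']
    subst h
    exact ⟨rfl, pre_injective hsemi hσ hτ (hR1 r hr) he⟩
  refine ⟨R, hR1, ?_, huniq, fun l hl => ?_⟩
  · have hset : (R ×ˢ (Finset.univ : Finset E)).image (fun x => pre (x.2 : MulAut A) x.1) =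
        (Finset.univ : Finset (A →* ℂˣ)).erase 1 := by
      ext l
      simp only [Finset.mem_image, Finset.mem_product, Finset.mem_univ, and_true, Finset.mem_erase]
      constructor
      · rintro ⟨x, hx, rfl⟩
        exact pre_ne_one _ (hR1 _ hx)
      · intro hl
        obtain ⟨σ, hσ, he⟩ := hrel l
        exact ⟨(f l, ⟨σ, hσ⟩), Finset.mem_image_of_mem f (Finset.mem_filter.2 ⟨Finset.mem_univ l, hl⟩), he⟩
    have hc := congrArg Finset.card hset
    rw [Finset.card_image_of_injOn, Finset.card_product, Finset.card_univ,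
      Finset.card_erase_of_mem (Finset.mem_univ _), Finset.card_univ, ← Nat.card_eq_fintype_card,
      ← Nat.card_eq_fintype_card, BlocksFrobenius.card_dual] at hc
    · rw [hc]
      exact Nat.sub_add_cancel (Nat.one_le_iff_ne_zero.2 Nat.card_pos.ne')
    · intro x hx y hy he
      obtain ⟨h1, h2⟩ := huniq x.1 (Finset.mem_product.1 hx).1 y.1 (Finset.mem_product.1 hy).1
        x.2 x.2.2 y.2 y.2.2 he
      exact Prod.ext h1 (Subtype.ext h2)
  · obtain ⟨σ, hσ, he⟩ := hrel l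
    exact ⟨f l, Finset.mem_image_of_mem f (Finset.mem_filter.2 ⟨Finset.mem_univ l, hl⟩), σ, hσ, he⟩

omit hsemi in
open Classical in
theorem sum_lin {l : A →* ℂˣ} : ∑ a, (l a : ℂ) = if l = 1 then (Nat.card A : ℂ) else 0 :=
  (BlocksFrobenius.sum_apply l).trans (by split_ifs <;> rfl)

open Classical in
/-- The Gram matrix of the shifted orbit sums. -/
theorem sum_orbit_sum_mul {R : Finset (A →* ℂˣ)} (hR1 : ∀ r ∈ R, r ≠ 1)
    (huniq : ∀ r ∈ R, ∀ r' ∈ R, ∀ σ ∈ E, ∀ τ ∈ E, pre σ r = pre τ r' → r = r' ∧ σ = τ)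
    {r r' : A →* ℂˣ} (hr : r ∈ R) (hr' : r' ∈ R) :
    ∑ a, ((∑ σ : E, (r ((σ : MulAut A) a) : ℂ)) - (Nat.card E : ℂ)) *
        conj ((∑ σ : E, (r' ((σ : MulAut A) a) : ℂ)) - (Nat.card E : ℂ)) =
      (Nat.card A : ℂ) * (Nat.card E : ℂ) *
        ((if r = r' then 1 else 0) + (Nat.card E : ℂ)) := by
  have h0 : ∀ s ∈ R, ∑ a, ∑ σ : E, (s ((σ : MulAut A) a) : ℂ) = 0 := fun s hs => by
    rw [Finset.sum_comm]
    refine Finset.sum_eq_zero fun σ _ => ?_
    rw [Finset.sum_congr rfl fun a _ => show (s ((σ : MulAut A) a) : ℂ) =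
      (pre (σ : MulAut A) s a : ℂ) from rfl, sum_lin, if_neg (pre_ne_one _ (hR1 s hs))]
  have h1 : ∑ a, (∑ σ : E, (r ((σ : MulAut A) a) : ℂ)) *
      conj (∑ σ : E, (r' ((σ : MulAut A) a) : ℂ)) =
      (Nat.card A : ℂ) * (Nat.card E : ℂ) * (if r = r' then 1 else 0) := by
    simp only [map_sum, Finset.sum_mul, Finset.mul_sum]
    rw [Finset.sum_comm]
    have hterm : ∀ σ τ : E, ∑ a, (r ((σ : MulAut A) a) : ℂ) * conj (r' ((τ : MulAut A) a) : ℂ) =
        if r = r' ∧ σ = τ then (Nat.card A : ℂ) else 0 := by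
      intro σ τ
      rw [Finset.sum_congr rfl fun a _ => show (r ((σ : MulAut A) a) : ℂ) *
          conj (r' ((τ : MulAut A) a) : ℂ) =
            ((pre (σ : MulAut A) r * (pre (τ : MulAut A) r')⁻¹) a : ℂ) by
        rw [conj_lin, MonoidHom.mul_apply, Units.val_mul, MonoidHom.inv_apply, pre_apply, pre_apply,
          map_inv], sum_lin]
      by_cases h : r = r' ∧ σ = τ
      · rw [if_pos h, if_pos]
        rw [h.1, h.2]
        exact MonoidHom.ext fun a => by simp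
      · rw [if_neg h, if_neg]
        intro he
        obtain ⟨e1, e2⟩ := huniq r hr r' hr' σ σ.2 τ τ.2 (mul_inv_eq_one.1 he)
        exact h ⟨e1, Subtype.ext e2⟩
    rw [Finset.sum_congr rfl fun σ _ => Finset.sum_comm]
    simp only [hterm]
    by_cases h : r = r'
    · simp [h, Nat.card_eq_fintype_card, mul_comm]
    · simp [h]
  have h2 : ∑ a, conj (∑ σ : E, (r' ((σ : MulAut A) a) : ℂ)) = 0 := by
    rw [← map_sum, h0 r' hr', map_zero]
  simp only [map_sub, map_natCast, sub_mul, mul_sub, Finset.sum_sub_distrib, ← Finset.mul_sum,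
    ← Finset.sum_mul, h0 r hr, h2, h1, Finset.sum_const, Finset.card_univ, nsmul_eq_mul,
    ← Nat.card_eq_fintype_card]
  ring

end CfsgLib.FreeInertia
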