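import Cfsg.Agent.FreeInertia.PGen
import Cfsg.Agent.BlockPairing.MajorBound
import Mathlib.GroupTheory.PGroup

/-!
# Signs making a system of square roots integral

If for every subgroup `R ≠ ⊥` of a finite abelian p-group some function in `gs (rl M)` has
squared absolute value `μ (R ⊔ ⟨a⟩) ^ 2` at `a`, then some invertible function of `gs (rl M)`
is `± μ ⟨a⟩` at every `a ≠ 1` (`exists_root`).
-/

set_option autoImplicit false
set_option linter.unusedSectionVars false
set_option linter.style.haveILetI false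

namespace CfsgLib.FreeInertia

open Cfsg
open CfsgLib.Blocks (localRing)
open scoped ComplexConjugate

universe u

/-- The sign of a rational unit whose square is congruent to one. -/
theorem exists_sign {p : ℕ} (hp : p.Prime) (j : ℕ) {a b : ℤ} (ha : ¬ (p : ℤ) ∣ a)
    (hd : (p : ℤ) ^ j ∣ a ^ 2 - b ^ 2)
    (h2 : p = 2 → j ≠ 0 → (p : ℤ) ^ (j + 1) ∣ a ^ 2 - b ^ 2) :
    ∃ τ : ℤ, (τ = 1 ∨ τ = -1) ∧ (p : ℤ) ^ j ∣ τ * a - b := by
  suffices h : (p : ℤ) ^ j ∣ a - b ∨ (p : ℤ) ^ j ∣ a + b by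
    rcases h with h | h
    · exact ⟨1, Or.inl rfl, by rwa [one_mul]⟩
    · exact ⟨-1, Or.inr rfl, by rw [neg_one_mul, ← neg_add']; exact h.neg_right⟩
  rcases Nat.eq_zero_or_pos j with rfl | hj
  · simp
  have hpi : Prime (p : ℤ) := Nat.prime_iff_prime_int.1 hp
  rw [sq_sub_sq] at hd h2
  by_cases h1 : (p : ℤ) ∣ a - b
  swap
  · exact Or.inr (hpi.pow_dvd_of_dvd_mul_right j h1 hd)
  by_cases h3 : (p : ℤ) ∣ a + b
  swap
  · exact Or.inl (hpi.pow_dvd_of_dvd_mul_left j h3 hd)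
  have h4 : (p : ℤ) ∣ 2 * a := by
    have := dvd_add h1 h3
    rwa [show a - b + (a + b) = 2 * a by ring] at this
  have hp2 : p = 2 := by
    have h5 := (hpi.dvd_or_dvd h4).resolve_right ha
    exact (Nat.prime_dvd_prime_iff_eq hp Nat.prime_two).1 (by exact_mod_cast h5)
  subst hp2
  have h6 := h2 rfl hj.ne'
  push_cast at hpi ha h1 h3 h6 ⊢
  obtain ⟨u, hu⟩ := h1
  obtain ⟨v, hv⟩ := h3
  rw [hu, hv, show 2 * v * (2 * u) = 2 * (v * (2 * u)) by ring, pow_succ'] at h6
  have h7 := (mul_dvd_mul_iff_left (show (2 : ℤ) ≠ 0 by norm_num)).1 h6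
  rcases Int.even_or_odd u with hu' | hu'
  · have hv' : ¬ (2 : ℤ) ∣ v := fun h => ha (by
      have : a = u + v := by linarith
      rw [this]; exact dvd_add (even_iff_two_dvd.1 hu') h)
    exact Or.inl (hu ▸ hpi.pow_dvd_of_dvd_mul_left j hv' h7)
  · have hu'' : ¬ (2 : ℤ) ∣ u := fun h => Int.not_even_iff_odd.2 hu' (even_iff_two_dvd.2 h)
    exact Or.inr (hv ▸ hpi.pow_dvd_of_dvd_mul_left j hu''
      (by rwa [show u * (2 * v) = v * (2 * u) by ring]))

variable {M : Ideal AlgInt} [M.IsPrime] {p : ℕ} [hp : Fact p.Prime] (hM : Cfsg.IsPModular p M)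

include hM

/-- A rational unit of the local ring. -/
theorem exists_num_den {x : ℂ} (hx : x ∈ rl M) (hu : ¬ Cfsg.MemLocalIdeal M x) :
    ∃ a b : ℤ, ¬ (p : ℤ) ∣ a ∧ ¬ (p : ℤ) ∣ b ∧ x = a / b := by
  obtain ⟨⟨r, rfl⟩, hr⟩ := mem_rl.1 hx
  have hd0 : ((r.den : ℤ) : ℂ) ≠ 0 := by exact_mod_cast r.den_nz
  have hr' : ((r.num : ℤ) : ℂ) = (r : ℂ) * ((r.den : ℤ) : ℂ) := by
    conv_rhs => rw [show (r : ℂ) = (r.num : ℂ) / (r.den : ℂ) by exact Rat.cast_def r]
    push_cast
    rw [div_mul_cancel₀ _ (by exact_mod_cast r.den_nz)]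
  have hcop : IsCoprime r.num (r.den : ℤ) := Int.isCoprime_iff_nat_coprime.2 (by simpa using r.reduced)
  have hpi : Prime (p : ℤ) := Nat.prime_iff_prime_int.1 hp.out
  have hden : ¬ (p : ℤ) ∣ (r.den : ℤ) := fun h => by
    have h1 : Cfsg.MemLocalIdeal M ((r.num : ℤ) : ℂ) := by
      rw [hr']
      exact Blocks.memLocalIdeal_mul_left hr
        ((MajorSubsection.memLocalIdeal_intCast_iff hM _).2 h)
    exact hpi.not_isUnit (hcop.isUnit_of_dvd' ((MajorSubsection.memLocalIdeal_intCast_iff hM _).1 h1) h)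
  refine ⟨r.num, r.den, fun h => hu ?_, hden, by rw [hr', mul_div_cancel_right₀ _ hd0]⟩
  rw [show (r : ℂ) = ((r.num : ℤ) : ℂ) * ((r.den : ℤ) : ℂ)⁻¹ by
    rw [hr', mul_assoc, mul_inv_cancel₀ hd0, mul_one]]
  exact Blocks.memLocalIdeal_mul_right ((MajorSubsection.memLocalIdeal_intCast_iff hM _).2 h)
    (memLocalRing_inv (MajorSubsection.memLocalRing_intCast _)
      fun h' => hden ((MajorSubsection.memLocalIdeal_intCast_iff hM _).1 h'))

theorem int_div_mem_rl {b : ℤ} (hb : ¬ (p : ℤ) ∣ b) (a : ℤ) : (a : ℂ) / b ∈ rl M := by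
  refine mem_rl.2 ⟨⟨a / b, by push_cast; rfl⟩, ?_⟩
  rw [div_eq_mul_inv]
  exact (localRing M).mul_mem (MajorSubsection.memLocalRing_intCast _)
    (memLocalRing_inv (MajorSubsection.memLocalRing_intCast _)
      fun h => hb ((MajorSubsection.memLocalIdeal_intCast_iff hM _).1 h))

theorem not_ideal_div {a b : ℤ} (ha : ¬ (p : ℤ) ∣ a) (hb : ¬ (p : ℤ) ∣ b) :
    ¬ Cfsg.MemLocalIdeal M ((a : ℂ) / b) := fun h => by
  have hb0 : (b : ℂ) ≠ 0 := by
    rintro h0
    exact hb (by rw [Int.cast_eq_zero.1 h0]; exact dvd_zero _)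
  refine ha ((MajorSubsection.memLocalIdeal_intCast_iff hM _).1 ?_)
  have := Blocks.memLocalIdeal_mul_right h (MajorSubsection.memLocalRing_intCast (M := M) b)
  rwa [div_mul_cancel₀ _ hb0] at this

theorem dvd_of_mem_rl {j : ℕ} {a b : ℤ} {x : ℂ} (hx : x ∈ rl M)
    (h : ((a : ℂ) / b) ^ 2 - 1 = (p : ℂ) ^ j * x) (hb : b ≠ 0) :
    (p : ℤ) ^ j ∣ a ^ 2 - b ^ 2 := by
  refine Star.pow_dvd_of_eq_mul hM j _ (x * (b : ℂ) ^ 2)
    ((localRing M).mul_mem (mem_rl.1 hx).2 ((localRing M).pow_mem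
      (MajorSubsection.memLocalRing_intCast b) 2)) ?_
  rw [← mul_assoc, ← h]
  have hb' : (b : ℂ) ≠ 0 := Int.cast_ne_zero.2 hb
  push_cast
  field_simp

variable {A : Type u} [CommGroup A] [Fintype A]

/-- The function equal to `c` on a subgroup and to one elsewhere. -/
noncomputable def step (S : Subgroup A) (c : ℂ) : A → ℂ :=
  open Classical in fun a => if a ∈ S then c else 1

omit hM in
theorem step_mem {S : Subgroup A} {c : ℂ}
    (hc : (c - 1) * ((Nat.card S : ℂ) / Nat.card A) ∈ rl M) : step S c ∈ gs A (rl M) := by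
  classical
  have h : step S c = 1 + fun a => if a ∈ S then c - 1 else 0 := by
    funext a
    simp only [step, Pi.add_apply, Pi.one_apply]
    split_ifs <;> ring
  rw [h]
  refine add_mem (one_mem _) fun l => ?_
  rw [coef_indicator]
  split_ifs
  · exact hc
  · exact (rl M).zero_mem

/-- The properties of the factor of a subgroup. -/
def Good (M : Ideal AlgInt) [M.IsPrime] (μ : Subgroup A → ℂ) (σ : Subgroup A → ℂ) (S : Subgroup A) : Prop :=
  σ S ∈ rl M ∧ (σ S)⁻¹ ∈ rl M ∧ σ S ≠ 0 ∧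
    (σ S - 1) * ((Nat.card S : ℂ) / Nat.card A) ∈ rl M ∧
    ((σ S)⁻¹ - 1) * ((Nat.card S : ℂ) / Nat.card A) ∈ rl M ∧
    open Classical in
    (∏ S' ∈ Finset.univ.filter (fun S' => S ≤ S'), σ S' = μ S ∨
      ∏ S' ∈ Finset.univ.filter (fun S' => S ≤ S'), σ S' = -μ S)

variable (hA : IsPGroup p A) {μ : Subgroup A → ℂ} {h : Subgroup A → A → ℂ}
  (hμ : ∀ S : Subgroup A, S ≠ ⊥ → ∃ n : ℕ, ¬ p ∣ n ∧ μ S = n)
  (hh : ∀ R : Subgroup A, R ≠ ⊥ → h R ∈ gs A (rl M) ∧
    ∀ a, h R a * conj (h R a) = μ (R ⊔ Subgroup.zpowers a) ^ 2)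

include hA hμ hh

open Classical in
theorem exists_factor {σ : Subgroup A → ℂ} {R : Subgroup A} (hR : R ≠ ⊥)
    (hσ : ∀ S, R < S → Good M μ σ S) :
    ∃ c : ℂ, c ∈ rl M ∧ c⁻¹ ∈ rl M ∧ c ≠ 0 ∧
      (c - 1) * ((Nat.card R : ℂ) / Nat.card A) ∈ rl M ∧
      (c⁻¹ - 1) * ((Nat.card R : ℂ) / Nat.card A) ∈ rl M ∧
      (c * ∏ S ∈ Finset.univ.filter (fun S => R < S), σ S = μ R ∨
        c * ∏ S ∈ Finset.univ.filter (fun S => R < S), σ S = -μ R) := by
  set above := Finset.univ.filter (fun S => R < S) with habove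
  have hab : ∀ S ∈ above, Good M μ σ S := fun S hS => hσ S (Finset.mem_filter.1 hS).2
  set γ := ∏ S ∈ above, σ S with hγ
  have hγ0 : γ ≠ 0 := Finset.prod_ne_zero_iff.2 fun S hS => (hab S hS).2.2.1
  have hγm : γ ∈ rl M := (rl M).prod_mem fun S hS => (hab S hS).1
  have hγi : γ⁻¹ ∈ rl M := by
    rw [hγ, ← Finset.prod_inv_distrib]
    exact (rl M).prod_mem fun S hS => (hab S hS).2.1
  set Pf := ∏ S ∈ above, step S (σ S)⁻¹ with hPi
  have hPf : Pf ∈ gs A (rl M) := (gs A (rl M)).prod_mem fun S hS => step_mem (hab S hS).2.2.2.2.1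
  have hPfv : ∀ a, Pf a = ∏ S ∈ above.filter (fun S => a ∈ S), (σ S)⁻¹ := fun a => by
    rw [hPi, Finset.prod_apply]
    conv_rhs => rw [Finset.prod_filter]
    rfl
  set g := μ R * γ⁻¹ with hg
  obtain ⟨n, hn, hμR⟩ := hμ R hR
  have hgm : g ∈ rl M := by
    rw [hg, hμR]
    exact (rl M).mul_mem (natCast_mem _ n) hγi
  have hgu : ¬ Cfsg.MemLocalIdeal M g := by
    intro hI
    refine hn ((Blocks.memLocalIdeal_natCast_iff hM n).1 ?_)
    rw [← hμR, show μ R = g * γ by rw [hg, inv_mul_cancel_right₀ hγ0]]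
    exact Blocks.memLocalIdeal_mul_right hI (mem_rl.1 hγm).2
  obtain ⟨a, b, ha, hb, hab'⟩ := exists_num_den hM hgm hgu
  have hb0 : b ≠ 0 := fun h0 => hb (h0 ▸ dvd_zero _)
  -- the square of the absolute value
  set q := h R * Pf with hq
  have hqm : q ∈ gs A (rl M) := mul_mem (hh R hR).1 hPf
  have hqq : (q * fun x => conj (q x)) =
      1 + fun x => if x ∈ R then g ^ 2 - 1 else 0 := by
    funext x
    have hreal : conj (Pf x) = Pf x := by
      refine conj_rl (M := M) ?_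
      rw [hPfv]
      exact (rl M).prod_mem fun S hS => (hab S (Finset.mem_filter.1 hS).1).2.1
    rw [Pi.mul_apply, Pi.add_apply, Pi.one_apply, hq, Pi.mul_apply, map_mul, hreal,
      show h R x * Pf x * (conj (h R x) * Pf x) = h R x * conj (h R x) * (Pf x) ^ 2 by ring,
      (hh R hR).2 x, hPfv, Finset.prod_inv_distrib]
    split_ifs with hx
    · rw [sup_eq_left.2 (Subgroup.zpowers_le.2 hx), Finset.filter_true_of_mem
        (fun S hS => (Finset.mem_filter.1 hS).2.le hx), ← hγ, hg]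
      ring
    · set Q := R ⊔ Subgroup.zpowers x with hQ
      have hRQ : R < Q := lt_of_le_of_ne le_sup_left fun he => hx (by
        rw [he]; exact Subgroup.mem_sup_right (Subgroup.mem_zpowers x))
      have hset : above.filter (fun S => x ∈ S) = Finset.univ.filter (fun S => Q ≤ S) := by
        ext S
        simp only [habove, Finset.mem_filter, Finset.mem_univ, true_and, hQ, sup_le_iff,
          Subgroup.zpowers_le]
        exact ⟨fun h => ⟨h.1.le, h.2⟩, fun h => ⟨lt_of_le_of_ne h.1 fun he => hx (he ▸ h.2), h.2⟩⟩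
      rw [hset]
      obtain ⟨m, hm, hμQ⟩ := hμ Q fun h0 => not_lt_bot (h0 ▸ hRQ)
      have hμ0 : μ Q ≠ 0 := by
        rw [hμQ, Nat.cast_ne_zero]
        exact fun h0 => hm (h0 ▸ dvd_zero p)
      rcases (hσ Q hRQ).2.2.2.2.2 with hprod | hprod <;> rw [hprod] <;> field_simp <;> ring
  have hQ2 : (q * fun x => conj (q x)) ∈ gs A (rl M) := mul_mem hqm (conj_mem_rl hqm)
  obtain ⟨j, hj⟩ : ∃ j, R.index = p ^ j := hA.index R
  have hRA : (Nat.card R : ℂ) / Nat.card A = ((p : ℂ) ^ j)⁻¹ := by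
    rw [← R.card_mul_index, hj, Nat.cast_mul, Nat.cast_pow, div_mul_eq_div_div,
      div_self (Nat.cast_ne_zero.2 Nat.card_pos.ne'), one_div]
  have hpj : (p : ℂ) ^ j ≠ 0 := pow_ne_zero _ (Nat.cast_ne_zero.2 hp.out.ne_zero)
  have hcoef : ∀ l : A →* ℂˣ, coef (q * fun x => conj (q x)) l =
      (if l = 1 then 1 else 0) + if R ≤ l.ker then (g ^ 2 - 1) * ((p : ℂ) ^ j)⁻¹ else 0 :=
    fun l => by
      rw [hqq, coef_add, coef_indicator, hRA, show (1 : A → ℂ) = fun _ => (1 : ℂ) from rfl,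
        coef_const]
  have hd : (p : ℤ) ^ j ∣ a ^ 2 - b ^ 2 := by
    have h1 := hQ2 1
    rw [hcoef, if_pos rfl, if_pos (show R ≤ (1 : A →* ℂˣ).ker from fun y _ => rfl)] at h1
    have h2 : (g ^ 2 - 1) * ((p : ℂ) ^ j)⁻¹ ∈ rl M := by
      simpa using (rl M).sub_mem h1 (rl M).one_mem
    refine dvd_of_mem_rl hM h2 ?_ hb0
    rw [← hab', mul_comm _ (_ * _), inv_mul_cancel_right₀ hpj]
  have hd2 : p = 2 → j ≠ 0 → (p : ℤ) ^ (j + 1) ∣ a ^ 2 - b ^ 2 := by
    intro hp2 hj0
    -- a character of order two trivial on `R`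
    obtain ⟨t, ht1, ht2, htR⟩ : ∃ t : A →* ℂˣ, t ≠ 1 ∧ t * t = 1 ∧ R ≤ t.ker := by
      have hne : R ≠ ⊤ := fun he => by
        rw [he, Subgroup.index_top] at hj
        exact (Nat.one_lt_pow hj0 hp.out.one_lt).ne hj
      obtain ⟨x, hx⟩ := SetLike.exists_not_mem_of_ne_top R hne rfl
      obtain ⟨ψ, hψ⟩ := BlocksFrobenius.exists_dual_ne_one (A := A ⧸ R) (a := (x : A ⧸ R))
        (fun he => hx ((QuotientGroup.eq_one_iff x).1 he))
      set l := ψ.comp (QuotientGroup.mk' R) with hl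
      have hl1 : l ≠ 1 := fun he => hψ (by simpa [hl] using DFunLike.congr_fun he x)
      obtain ⟨N, hN⟩ := IsPGroup.iff_card.1 hA
      have hord : orderOf l ∣ p ^ N := by
        rw [← hN, ← BlocksFrobenius.card_dual]
        exact orderOf_dvd_natCard l
      obtain ⟨k, -, hk⟩ := (Nat.dvd_prime_pow hp.out).1 hord
      obtain ⟨k', rfl⟩ : ∃ k', k = k' + 1 := Nat.exists_eq_succ_of_ne_zero fun h0 => hl1
        (orderOf_eq_one_iff.1 (by rw [hk, h0, pow_zero]))
      refine ⟨l ^ (p ^ k'), fun he => ?_, ?_, fun y hy => ?_⟩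
      · have := Nat.le_of_dvd (pow_pos hp.out.pos _) (hk ▸ orderOf_dvd_of_pow_eq_one he)
        exact absurd this (not_le.2 (Nat.pow_lt_pow_right hp.out.one_lt (Nat.lt_succ_self _)))
      · rw [show l ^ (p ^ k') * l ^ (p ^ k') = l ^ (p ^ k' + p ^ k') from (pow_add l _ _).symm,
          ← two_mul]
        conv_lhs => arg 2; arg 1; rw [← hp2]
        rw [← pow_succ', ← hk, pow_orderOf_eq_one]
      · have hly : l y = 1 := by
          simp [hl, (QuotientGroup.eq_one_iff y).2 hy]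
        simp [MonoidHom.mem_ker, MonoidHom.pow_apply, hly]
    have h1 := hcoef t
    rw [if_neg ht1, if_pos htR, zero_add, coef_mul] at h1
    have hty : ∀ y, t y * t y = 1 := fun y => by simpa using DFunLike.congr_fun ht2 y
    have hterm : ∀ k, coef q k * coef (fun x => conj (q x)) (k⁻¹ * t) =
        coef q k * coef q (k * t) := fun k => by
      rw [coef_conj, conj_rl (hqm _), show (k⁻¹ * t)⁻¹ = k * t from MonoidHom.ext fun y => by
        simp only [MonoidHom.inv_apply, MonoidHom.mul_apply, mul_inv_rev, inv_inv,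
          inv_eq_of_mul_eq_one_right (hty y), mul_comm]]
    simp only [hterm] at h1
    set e := Fintype.equivFin (A →* ℂˣ)
    set c : (A →* ℂˣ) → ℂ := fun k => coef q k * coef q (k * t)
    set s := Finset.univ.filter (fun k => e k < e (k * t))
    have hinvol : ∀ k : A →* ℂˣ, k * t * t = k := fun k => MonoidHom.ext fun y => by simp [mul_assoc, hty y]
    have hhalf : ∑ k : A →* ℂˣ, c k = 2 * ∑ k ∈ s, c k := by
      rw [← Finset.sum_filter_add_sum_filter_not Finset.univ (fun k => e k < e (k * t)), two_mul]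
      congr 1
      refine (Finset.sum_nbij' (fun k => k * t) (fun k => k * t) ?_ ?_
        (fun k _ => hinvol k) (fun k _ => hinvol k) fun k _ => ?_).symm
      · intro k hk
        simp only [s, Finset.mem_filter, Finset.mem_univ, true_and] at hk ⊢
        rw [hinvol]
        exact not_lt.2 hk.le
      · intro k hk
        simp only [s, Finset.mem_filter, Finset.mem_univ, true_and, not_lt] at hk ⊢
        rw [hinvol]
        exact lt_of_le_of_ne hk fun he => ht1 (mul_eq_left.1 (e.injective he))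
      · simp only [c, hinvol]
        ring
    refine dvd_of_mem_rl hM (x := ∑ k ∈ s, c k)
      ((rl M).sum_mem fun k _ => (rl M).mul_mem (hqm _) (hqm _)) ?_ hb0
    rw [← hab', show (p : ℂ) ^ (j + 1) = (p : ℂ) ^ j * 2 by rw [pow_succ, hp2]; norm_num, mul_assoc,
      ← hhalf]
    simp only [c] at h1 ⊢
    rw [h1]
    field_simp
  obtain ⟨τ, hτ, z, hz⟩ := exists_sign hp.out j ha hd hd2
  have hτa : ¬ (p : ℤ) ∣ τ * a := by
    rcases hτ with rfl | rfl <;> simpa using ha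
  have hτ0 : (((τ * a : ℤ) : ℂ)) ≠ 0 := Int.cast_ne_zero.2 fun h0 => hτa (h0 ▸ dvd_zero _)
  have hb' : (b : ℂ) ≠ 0 := Int.cast_ne_zero.2 hb0
  have hz' : ((τ * a : ℤ) : ℂ) = (p : ℂ) ^ j * (z : ℂ) + b := by
    rw [show τ * a = (p : ℤ) ^ j * z + b by linarith]
    push_cast; ring
  refine ⟨((τ * a : ℤ) : ℂ) / b, int_div_mem_rl hM hb _, ?_, div_ne_zero hτ0 hb', ?_, ?_, ?_⟩
  · rw [inv_div]
    exact int_div_mem_rl hM hτa _
  · rw [hRA, show (((τ * a : ℤ) : ℂ) / b - 1) * ((p : ℂ) ^ j)⁻¹ = (z : ℂ) / b by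
      rw [hz']; field_simp; ring]
    exact int_div_mem_rl hM hb _
  · rw [hRA, show ((((τ * a : ℤ) : ℂ) / b)⁻¹ - 1) * ((p : ℂ) ^ j)⁻¹ =
      ((-z : ℤ) : ℂ) / ((τ * a : ℤ) : ℂ) by
      rw [inv_div, Int.cast_neg]
      field_simp
      linear_combination -hz']
    exact int_div_mem_rl hM hτa _
  · rw [show ((τ * a : ℤ) : ℂ) / b * γ = (τ : ℂ) * μ R by
      rw [Int.cast_mul, mul_div_assoc, ← hab', hg, mul_assoc, inv_mul_cancel_right₀ hγ0]]
    rcases hτ with rfl | rfl
    · left; simp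
    · right; simp

open Classical in
theorem exists_good (n : ℕ) :
    ∃ σ : Subgroup A → ℂ, ∀ S : Subgroup A, S ≠ ⊥ → Nat.card A < Nat.card S + n → Good M μ σ S := by
  induction n with
  | zero =>
    exact ⟨fun _ => 1, fun S _ hS => absurd hS (not_lt.2 (by simpa using S.card_le_card_group))⟩
  | succ n ih =>
    obtain ⟨σ, hσ⟩ := ih
    have key : ∀ R : Subgroup A, ∃ c : ℂ,
        R ≠ ⊥ → Nat.card A = Nat.card R + n → (c ∈ rl M ∧ c⁻¹ ∈ rl M ∧ c ≠ 0 ∧
          (c - 1) * ((Nat.card R : ℂ) / Nat.card A) ∈ rl M ∧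
          (c⁻¹ - 1) * ((Nat.card R : ℂ) / Nat.card A) ∈ rl M ∧
          (c * ∏ S ∈ Finset.univ.filter (fun S => R < S), σ S = μ R ∨
            c * ∏ S ∈ Finset.univ.filter (fun S => R < S), σ S = -μ R)) := fun R => by
      by_cases hR : R ≠ ⊥ ∧ Nat.card A = Nat.card R + n
      · obtain ⟨c, hc⟩ := exists_factor hM hA hμ hh hR.1 (σ := σ) fun S hS => hσ S
          (ne_bot_of_gt hS) (by
            have h1 : Nat.card R < Nat.card S := lt_of_le_of_ne (Subgroup.card_le_of_le hS.le)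
              fun he => hS.ne (Subgroup.eq_of_le_of_card_ge hS.le he.ge)
            omega)
        exact ⟨c, fun _ _ => hc⟩
      · exact ⟨0, fun h1 h2 => absurd ⟨h1, h2⟩ hR⟩
    choose c hc using key
    let σ' : Subgroup A → ℂ := fun S => if Nat.card A = Nat.card S + n then c S else σ S
    have hsame : ∀ S : Subgroup A, Nat.card A < Nat.card S + n → σ' S = σ S := fun S hS =>
      if_neg hS.ne
    refine ⟨σ', fun S hS hn => ?_⟩
    have hprod : ∀ T : Subgroup A, Nat.card A ≤ Nat.card T + n →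
        ∏ S' ∈ Finset.univ.filter (fun S' => T < S'), σ' S' =
          ∏ S' ∈ Finset.univ.filter (fun S' => T < S'), σ S' := fun T hT =>
      Finset.prod_congr rfl fun S' hS' => hsame S' (by
        have hlt := (Finset.mem_filter.1 hS').2
        have h1 : Nat.card T < Nat.card S' := lt_of_le_of_ne (Subgroup.card_le_of_le hlt.le)
          fun he => hlt.ne (Subgroup.eq_of_le_of_card_ge hlt.le he.ge)
        omega)
    have hins : Finset.univ.filter (fun S' => S ≤ S') =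
        insert S (Finset.univ.filter (fun S' => S < S')) := by
      ext S'
      simp [le_iff_eq_or_lt, eq_comm]
    unfold Good
    rw [hins, Finset.prod_insert (by simp), hprod S (by omega)]
    rcases (Nat.lt_succ_iff.1 hn).eq_or_lt with he | hlt
    · rw [show σ' S = c S from if_pos he]
      exact hc S hS he
    · rw [hsame S hlt]
      have := hσ S hS hlt
      unfold Good at this
      rwa [hins, Finset.prod_insert (by simp)] at this

open Classical in
/-- An invertible function equal to `± μ ⟨a⟩` away from one. -/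
theorem exists_root : ∃ Φ : A → ℂ, Φ ∈ gs A (rl M) ∧ (fun a => (Φ a)⁻¹) ∈ gs A (rl M) ∧
    (∀ a, Φ a ≠ 0) ∧
    ∀ a, a ≠ 1 → Φ a = μ (Subgroup.zpowers a) ∨ Φ a = -μ (Subgroup.zpowers a) := by
  obtain ⟨σ, hσ⟩ := exists_good hM hA hμ hh (Nat.card A + 1)
  have hgood : ∀ S : Subgroup A, S ≠ ⊥ → Good M μ σ S := fun S hS => hσ S hS (by omega)
  set N := (Finset.univ : Finset (Subgroup A)).filter (fun S => S ≠ ⊥) with hN
  have hmem : ∀ S ∈ N, S ≠ ⊥ := fun S hS => (Finset.mem_filter.1 hS).2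
  refine ⟨∏ S ∈ N, step S (σ S), (gs A (rl M)).prod_mem fun S hS =>
    step_mem (hgood S (hmem S hS)).2.2.2.1, ?_, fun a => ?_, fun a ha => ?_⟩
  · rw [show (fun a => ((∏ S ∈ N, step S (σ S)) a)⁻¹) = ∏ S ∈ N, step S (σ S)⁻¹ by
      funext a
      rw [Finset.prod_apply, Finset.prod_apply, ← Finset.prod_inv_distrib]
      refine Finset.prod_congr rfl fun S _ => ?_
      simp only [step]
      split_ifs <;> simp]
    exact (gs A (rl M)).prod_mem fun S hS => step_mem (hgood S (hmem S hS)).2.2.2.2.1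
  · rw [Finset.prod_apply, Finset.prod_ne_zero_iff]
    intro S hS
    simp only [step]
    split_ifs
    · exact (hgood S (hmem S hS)).2.2.1
    · exact one_ne_zero
  · have hz : Subgroup.zpowers a ≠ ⊥ := fun h0 => ha (by simpa using h0)
    have hset : N.filter (fun S => a ∈ S) =
        Finset.univ.filter (fun S => Subgroup.zpowers a ≤ S) := by
      ext S
      simp only [hN, Finset.mem_filter, Finset.mem_univ, true_and, Subgroup.zpowers_le]
      exact ⟨fun h => h.2, fun h => ⟨fun h0 => ha (by rw [h0] at h; simpa using h), h⟩⟩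
    have hval : (∏ S ∈ N, step S (σ S)) a =
        ∏ S ∈ Finset.univ.filter (fun S => Subgroup.zpowers a ≤ S), σ S := by
      rw [Finset.prod_apply, ← hset]
      conv_rhs => rw [Finset.prod_filter]
      rfl
    rw [hval]
    exact (hgood _ hz).2.2.2.2.2

end CfsgLib.FreeInertia
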