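import Cfsg.Agent.FreeInertia.Source
import Cfsg.Agent.FreeInertia.Root

/-!
# A rational square root of the norm of a subsection function

`exists_invariant_sqrt` gives an invertible element of `gs (rl M)` on `P`, invariant under the
automorphisms induced by the stabilizer, equal at every `w ≠ 1` to plus or minus the function
`d` of the subsection at `w` evaluated at a member of height zero.
-/

set_option autoImplicit false
set_option linter.unusedSectionVars false
set_option linter.style.haveILetI false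
set_option maxHeartbeats 800000

namespace CfsgLib.FreeInertia

open Cfsg CfsgLib.BlockPairs CfsgLib.Star
open CfsgLib.Blocks (localRing Res)
open CfsgLib.InertialQuotient (le_centralizer_of_le)
open scoped ComplexConjugate

universe u v

variable {G : Type u} [Group G] [Fintype G] {M : Ideal AlgInt} [M.IsPrime] {p : ℕ}
  [hp : Fact p.Prime] {P : Subgroup G} {eP : GA (Res M) G}

/-- The natural numbers attached to a subgroup. -/
def Rel (p : ℕ) [Fact p.Prime] (P : Subgroup G) (eP i : GA (Res M) G) (Q : Subgroup G)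
    (n μ : ℕ) : Prop :=
  n ≠ 0 ∧
    (Nat.card ↥(Subgroup.centralizer (Q : Set G)) : ℂ) * T M (delta G) 1 (br Q i) =
      (Nat.card P : ℂ) * n * μ ∧
    (Nat.card ↥(Subgroup.centralizer (Q : Set G)) : ℂ) * T M (delta G) 1 (below p P eP Q) =
      (Nat.card P : ℂ) * n ^ 2

theorem Rel.unique {i : GA (Res M) G} {Q : Subgroup G} {n μ n' μ' : ℕ}
    (h : Rel p P eP i Q n μ) (h' : Rel p P eP i Q n' μ') : n = n' ∧ μ = μ' := by
  obtain ⟨hn, h1, h2⟩ := h
  obtain ⟨-, h1', h2'⟩ := h'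
  rw [h2'] at h2
  rw [h1'] at h1
  have hP : 0 < Nat.card P := Nat.card_pos
  have e2 : Nat.card P * n' ^ 2 = Nat.card P * n ^ 2 := by exact_mod_cast h2
  have e1 : Nat.card P * n' * μ' = Nat.card P * n * μ := by exact_mod_cast h1
  obtain rfl : n' = n :=
    Nat.pow_left_injective two_ne_zero (Nat.eq_of_mul_eq_mul_left hP e2)
  exact ⟨rfl, (Nat.eq_of_mul_eq_mul_left (Nat.mul_pos hP (Nat.pos_of_ne_zero hn)) e1).symm⟩

variable [CharP (Res M) p] [IsAlgClosed (Res M)] {B : Set (IrrCharacter G)}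
  (hM : Cfsg.IsPModular p M) (hB : Cfsg.IsPBlock M B)
  (hmax : IsMaxPair p ⊤ (gblk M B) P eP) (hab : P ≤ Subgroup.centralizer (P : Set G))
  (hfree : ∀ t ∈ stab ⊤ P eP, ∀ x ∈ P, x ≠ 1 → t * x * t⁻¹ = x →
    t ∈ Subgroup.centralizer (P : Set G))
  {i : GA (Res M) G} (hii : i * i = i) (hifix : IsFixed P i)
  (hibr : ∀ Q, Q ≤ P → br Q i * below p P eP Q = br Q i)

include hM hB hmax hab hfree hii hifix hibr

open Classical in
/-- The data inside the centralizer of a subgroup. -/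
theorem exists_local_rel {R : Subgroup G} (hR : R ≤ P) (hR1 : R ≠ ⊥)
    [Fintype ↥(Subgroup.centralizer (R : Set G))] :
    ∃ j : GA (Res M) ↥(Subgroup.centralizer (R : Set G)), j * j = j ∧
      emb (Subgroup.centralizer (R : Set G)).subtype j = br R i ∧
      IsFixed (P.subgroupOf (Subgroup.centralizer (R : Set G))) j ∧
      (∀ v ∈ P.subgroupOf (Subgroup.centralizer (R : Set G)),
        ∃ (n μ : ℕ) (d : IrrCharacter ↥(Subgroup.centralizer (R : Set G)) → ℂ),
          Rel p P eP i (R ⊔ Subgroup.zpowers (v : G)) n μ ∧ (∀ χ, IsIntegral ℤ (d χ)) ∧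
          ∀ χ : IrrCharacter ↥(Subgroup.centralizer (R : Set G)),
            T M (χ : _ → ℂ) v j = d χ * μ) ∧
      ∃ η : IrrCharacter ↥(Subgroup.centralizer (R : Set G)),
        ∀ v ∈ P.subgroupOf (Subgroup.centralizer (R : Set G)),
          ∃ n μ : ℕ, Rel p P eP i (R ⊔ Subgroup.zpowers (v : G)) n μ ∧
            T M (η : _ → ℂ) v j * conj (T M (η : _ → ℂ) v j) = (μ : ℂ) ^ 2 := by
  obtain ⟨b, e, hb, hbe, hmax', hab', hnilp, hbel⟩ := exists_local' hM hB hmax hab hfree hR hR1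
  have hinj := (Subgroup.centralizer (R : Set G)).subtype_injective
  have hPK : P ≤ Subgroup.centralizer (R : Set G) := le_centralizer_of_le hab hR
  obtain ⟨j, hj⟩ := exists_emb_of_isSupp (φ := (Subgroup.centralizer (R : Set G)).subtype) hinj
    (z := br R i) ((isSupp_br R i).mono (by rw [Subgroup.range_subtype]))
  have hRp : IsPGroup p R := hmax.1.1.2.1.to_le hR
  have hjj : j * j = j := emb_injective (φ := (Subgroup.centralizer (R : Set G)).subtype) hinj
    (by rw [map_mul, hj, br_idem hRp (hifix.mono hR) hii])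
  have hjfix : IsFixed (P.subgroupOf (Subgroup.centralizer (R : Set G))) j := fun x hx => by
    refine emb_injective (φ := (Subgroup.centralizer (R : Set G)).subtype) hinj ?_
    rw [← conjA_emb hinj, hj]
    refine isFixed_br (R := P) ?_ hifix _ hx
    exact fun y hy => Subgroup.centralizer_le_normalizer _ (hPK hy)
  have hmap : ∀ v : ↥(Subgroup.centralizer (R : Set G)),
      (Subgroup.zpowers v).map (Subgroup.centralizer (R : Set G)).subtype =
        Subgroup.zpowers (v : G) := fun v => MonoidHom.map_zpowers _ _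
  have hPc : Nat.card (P.subgroupOf (Subgroup.centralizer (R : Set G))) = Nat.card P :=
    Nat.card_congr (Subgroup.subgroupOfEquivOfLe hPK).toEquiv
  have hdata : ∀ v ∈ P.subgroupOf (Subgroup.centralizer (R : Set G)),
      ∃ (n μ : ℕ) (d : IrrCharacter ↥(Subgroup.centralizer (R : Set G)) → ℂ),
        Rel p P eP i (R ⊔ Subgroup.zpowers (v : G)) n μ ∧ (∀ χ, IsIntegral ℤ (d χ)) ∧
        (∀ χ η : IrrCharacter ↥(Subgroup.centralizer (R : Set G)),
          cval p (P.subgroupOf (Subgroup.centralizer (R : Set G))) e (χ : _ → ℂ) (η : _ → ℂ) v = d χ * conj (d η)) ∧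
        ∀ χ : IrrCharacter ↥(Subgroup.centralizer (R : Set G)),
          T M (χ : _ → ℂ) v j = d χ * μ := by
    intro v hv
    obtain ⟨n, d, hn, hint, hcv, -, hbe', hall⟩ :=
      exists_local_data hM hb hmax' hab' hv (hnilp v hv)
    obtain ⟨hb1, hc1⟩ := hbel _ (Subgroup.zpowers_le.2 hv)
    rw [hmap] at hb1 hc1
    have hbr : emb (Subgroup.centralizer (R : Set G)).subtype (br (Subgroup.zpowers v) j) =
        br (R ⊔ Subgroup.zpowers (v : G)) i := by
      rw [← br_emb hinj, hj, hmap, br_br_sup]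
    have hle : R ⊔ Subgroup.zpowers (v : G) ≤ P :=
      sup_le hR (Subgroup.zpowers_le.2 hv)
    obtain ⟨μ, hT, hnu⟩ := hall j hjj (hjfix v hv)
      (emb_injective (φ := (Subgroup.centralizer (R : Set G)).subtype) hinj
        (by rw [map_mul, hbr, hb1, hibr _ hle]))
    have hcard : Nat.card ↥(Subgroup.centralizer
        (SetLike.coe (Subgroup.zpowers v))) =
        Nat.card ↥(Subgroup.centralizer ((R ⊔ Subgroup.zpowers (v : G) : Subgroup G) : Set G)) := by
      rw [← hc1, Subgroup.card_map_of_injective hinj]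
    refine ⟨n, μ, d, ⟨hn, ?_, ?_⟩, hint, hcv, hT⟩
    · rw [← hbr, T_delta_emb _ (br_idem
        (hmax'.1.1.2.1.to_le (Subgroup.zpowers_le.2 hv))
        (hjfix.mono (Subgroup.zpowers_le.2 hv)) hjj), ← hcard, hnu, hPc]
    · rw [← hb1, T_delta_emb _ (mem_blocks.1 (below_mem_blocks hmax' hv)).idem, ← hcard, hbe', hPc]
  have hd : Cfsg.IsDefectGroup p M b (P.subgroupOf (Subgroup.centralizer (R : Set G))) := by
    rw [isDefectGroup_gblk_iff hb]
    exact (hmax'.isDefectGrp (isBlock_gblk hb)).1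
  have hn : Nilp p ⊤ (gblk M b) := by
    have h := hnilp 1 (one_mem _)
    have htopc : Subgroup.centralizer
        (SetLike.coe (Subgroup.zpowers (1 : ↥(Subgroup.centralizer (R : Set G))))) = ⊤ := by
      rw [InertialQuotient.centralizer_zpowers, eq_top_iff]
      exact fun g _ => Subgroup.mem_centralizer_singleton_iff.2 (by simp)
    rw [NilpBelow, InertialQuotient.below_of_centralizer_top hb hmax' hab'
      (Subgroup.zpowers_le.2 (one_mem _)) htopc, htopc] at h
    exact h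
  obtain ⟨η, hη, hη0, -, -, -⟩ := nilp_members hM hb hd hab' hn
  refine ⟨j, hjj, hj, hjfix, fun v hv => ?_, η, fun v hv => ?_⟩
  · obtain ⟨n, μ, d, hrel, hint, -, hT⟩ := hdata v hv
    exact ⟨n, μ, d, hrel, hint, hT⟩
  · obtain ⟨n, μ, d, hrel, -, hcv, hT⟩ := hdata v hv
    refine ⟨n, μ, hrel, ?_⟩
    have h1 : d η * conj (d η) = 1 := by
      rw [← hcv η η]
      exact aval_eq_one hM hb hmax' hn hη hη0 ⟨v, hv⟩
    rw [hT η, map_mul, Complex.conj_natCast,
      show d η * (μ : ℂ) * (conj (d η) * (μ : ℂ)) = d η * conj (d η) * (μ : ℂ) ^ 2 by ring, h1,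
      one_mul]

variable {A : Type v} [CommGroup A] [Fintype A] (φ : A ≃* P)

omit hB hmax hab hfree hibr hM in
/-- The trace of an idempotent along a homomorphism. -/
theorem isGen_T {X : Type u} [Group X] [Fintype X] {E : Subgroup X} {j : GA (Res M) X}
    (hjj : j * j = j) (hj : IsFixed E j) (η : IrrCharacter X) (ψ : A →* E) :
    Cfsg.IsGeneralizedCharacter A fun a => T M (η : X → ℂ) (ψ a : X) j := by
  obtain ⟨Ê, hÊ, hÊz⟩ := exists_lift (M := M) j hjj
  have h := Characters.isGen_comp ψ (isGen_trace (Characters.isCharacter_of_isIrr η.2) Ê hÊ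
    fun x hx => (hÊz x (hj x hx)).1)
  convert h using 1
  funext a
  exact T_eq (Characters.isClassFunction_of_isIrr η.2) hÊ (hÊz _ (hj _ (ψ a).2))

open Classical in
/-- The root of the squared numbers. -/
theorem exists_signed
    (hbase : ∀ n μ : ℕ, Rel p P eP i P n μ → ¬ p ∣ μ) :
    ∃ Φ : A → ℂ, Φ ∈ gs A (rl M) ∧ (fun a => (Φ a)⁻¹) ∈ gs A (rl M) ∧ (∀ a, Φ a ≠ 0) ∧
      ∀ a, a ≠ 1 → ∀ n μ : ℕ, Rel p P eP i (Subgroup.zpowers (φ a : G)) n μ →
        ¬ p ∣ μ ∧ (Φ a = μ ∨ Φ a = -(μ : ℂ)) := by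
  set ι := P.subtype.comp φ.toMonoidHom with hι
  have hιinj : Function.Injective ι := P.subtype_injective.comp φ.injective
  have hιP : ∀ S : Subgroup A, S.map ι ≤ P := fun S => by
    rintro _ ⟨a, -, rfl⟩
    exact (φ a).2
  have hne : ∀ S : Subgroup A, S ≠ ⊥ → S.map ι ≠ ⊥ := fun S hS h =>
    hS ((Subgroup.map_eq_bot_iff_of_injective S hιinj).1 h)
  have hsup : ∀ (S : Subgroup A) (a : A),
      S.map ι ⊔ Subgroup.zpowers (φ a : G) = (S ⊔ Subgroup.zpowers a).map ι := fun S a => by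
    rw [Subgroup.map_sup, MonoidHom.map_zpowers]
    rfl
  have key : ∀ S : Subgroup A, ∃ h : A → ℂ, S ≠ ⊥ → (h ∈ gs A (rl M) ∧
      ∀ a, ∃ n μ : ℕ, Rel p P eP i ((S ⊔ Subgroup.zpowers a).map ι) n μ ∧
        h a * conj (h a) = (μ : ℂ) ^ 2) := fun S => by
    by_cases hS : S = ⊥
    · exact ⟨0, fun h => absurd hS h⟩
    set R := S.map ι
    haveI := Fintype.ofFinite ↥(Subgroup.centralizer (R : Set G))
    obtain ⟨j, hjj, -, hjfix, -, η, hη⟩ :=
      exists_local_rel hM hB hmax hab hfree hii hifix hibr (hιP S) (hne S hS)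
    have hPK : P ≤ Subgroup.centralizer (R : Set G) := le_centralizer_of_le hab (hιP S)
    set ψ : A →* P.subgroupOf (Subgroup.centralizer (R : Set G)) :=
      (Subgroup.subgroupOfEquivOfLe hPK).symm.toMonoidHom.comp φ.toMonoidHom
    refine ⟨fun a => T M (η : _ → ℂ) (ψ a : ↥(Subgroup.centralizer (R : Set G))) j, fun _ =>
      ⟨isGen_mem _ (isGen_T hii hifix hjj hjfix η ψ), fun a => ?_⟩⟩
    obtain ⟨n, μ, hrel, hsq⟩ := hη _ (ψ a).2
    exact ⟨n, μ, by rw [← hsup]; exact hrel, hsq⟩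
  choose h hh using key
  let m : Subgroup A → ℂ := fun S =>
    if hS : ∃ n μ : ℕ, Rel p P eP i (S.map ι) n μ then (hS.choose_spec.choose : ℂ) else 0
  have hm : ∀ (S : Subgroup A) {n μ : ℕ}, Rel p P eP i (S.map ι) n μ → m S = μ := fun S n μ h => by
    have hS : ∃ n μ : ℕ, Rel p P eP i (S.map ι) n μ := ⟨n, μ, h⟩
    simp only [m, dif_pos hS]
    rw [(Rel.unique hS.choose_spec.choose_spec h).2]
  have hsq : ∀ S : Subgroup A, S ≠ ⊥ → ∀ a,
      h S a * conj (h S a) = m (S ⊔ Subgroup.zpowers a) ^ 2 := fun S hS a => by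
    obtain ⟨n, μ, hrel, he⟩ := (hh S hS).2 a
    rw [he, hm _ hrel]
  have hA : IsPGroup p A := hmax.1.1.2.1.of_equiv φ.symm
  have hunit : ∀ S : Subgroup A, S ≠ ⊥ → ∃ μ : ℕ, ¬ p ∣ μ ∧ m S = μ := by
    intro S
    induction hk : Nat.card A - Nat.card S using Nat.strong_induction_on generalizing S with
    | _ k ih =>
      intro hS
      obtain ⟨n, μ, hrel, -⟩ := (hh S hS).2 1
      rw [show S ⊔ Subgroup.zpowers (1 : A) = S by simp] at hrel
      refine ⟨μ, ?_, hm S hrel⟩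
      by_cases htop : S = ⊤
      · refine hbase n μ ?_
        have : S.map ι = P := by
          rw [htop, hι]
          refine le_antisymm (hιP ⊤) fun x hx => ⟨φ.symm ⟨x, hx⟩, trivial, ?_⟩
          simp
        rwa [this] at hrel
      obtain ⟨a, ha⟩ : ∃ a, a ∉ S := by
        by_contra hc
        push Not at hc
        exact htop ((Subgroup.eq_top_iff' S).2 hc)
      have hlt : S < S ⊔ Subgroup.zpowers a := lt_of_le_of_ne le_sup_left fun he => ha (by
        rw [he]; exact Subgroup.mem_sup_right (Subgroup.mem_zpowers a))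
      have hcard : Nat.card S < Nat.card ↥(S ⊔ Subgroup.zpowers a) :=
        lt_of_le_of_ne (Subgroup.card_le_of_le hlt.le) fun he =>
          hlt.ne (Subgroup.eq_of_le_of_card_ge hlt.le he.ge)
      have hle : Nat.card ↥(S ⊔ Subgroup.zpowers a) ≤ Nat.card A := Subgroup.card_le_card_group _
      obtain ⟨μ', hμ', hm'⟩ := ih _ (by omega) _ rfl (ne_bot_of_gt hlt)
      intro hd
      have hH : (fun x => h S x * conj (h S x)) ∈ gs A (localRing M) :=
        (mem_gs_rl.1 (mul_mem (hh S hS).1 (conj_mem_rl (hh S hS).1))).2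
      have hc := value_cong hM hH hA a
      rw [hsq S hS a, hsq S hS 1, show S ⊔ Subgroup.zpowers (1 : A) = S by simp, hm', hm S hrel]
        at hc
      have hI : Cfsg.MemLocalIdeal M ((μ : ℂ) ^ 2) := by
        rw [sq]
        exact CfsgLib.Blocks.memLocalIdeal_mul_right
          ((CfsgLib.Blocks.memLocalIdeal_natCast_iff hM μ).2 hd)
          (CfsgLib.Blocks.memLocalRing_natCast μ)
      have h2 := CfsgLib.Blocks.memLocalIdeal_add hc hI
      rw [sub_add_cancel, ← Nat.cast_pow, CfsgLib.Blocks.memLocalIdeal_natCast_iff hM] at h2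
      exact hμ' (hp.out.dvd_of_dvd_pow h2)
  obtain ⟨Φ, h1, h2, h3, h4⟩ := exists_root hM hA (μ := m) hunit fun S hS => ⟨(hh S hS).1, hsq S hS⟩
  refine ⟨Φ, h1, h2, h3, fun a ha n μ hrel => ?_⟩
  have hmap : (Subgroup.zpowers a).map ι = Subgroup.zpowers (φ a : G) := MonoidHom.map_zpowers _ _
  rw [← hmap] at hrel
  have hma := hm _ hrel
  obtain ⟨μ', hμ', hm'⟩ := hunit (Subgroup.zpowers a) (fun h0 => ha (by simpa using h0))
  obtain rfl : μ' = μ := Nat.cast_injective (hm'.symm.trans hma)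
  exact ⟨hμ', by rw [← hma]; exact h4 a ha⟩

omit hii hifix hibr in
open Classical in
/-- A function in `gs (rl M)` equal to `± d` away from one. -/
theorem exists_sqrt (hP1 : P ≠ ⊥) {χ₀ : IrrCharacter G} (hχ₀ : χ₀ ∈ B)
    (h0 : Cfsg.blockHeight p B (χ₀ : G → ℂ) = 0) :
    ∃ f : A → ℂ, f ∈ gs A (rl M) ∧ (fun a => (f a)⁻¹) ∈ gs A (rl M) ∧
      (∀ a, ¬ Cfsg.MemLocalIdeal M (f a)) ∧
      ∀ a, a ≠ 1 → ∃ (n : ℕ) (d : IrrCharacter G → ℂ), n ≠ 0 ∧ (∀ χ, IsIntegral ℤ (d χ)) ∧
        (∀ χ η : IrrCharacter G,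
          cval p P eP (χ : G → ℂ) (η : G → ℂ) (φ a : G) = d χ * conj (d η)) ∧
        (∀ χ : IrrCharacter G,
          T M (χ : G → ℂ) (φ a : G) (below p P eP (Subgroup.zpowers (φ a : G))) = d χ * n) ∧
        (Nat.card ↥(Subgroup.centralizer
            ((Subgroup.zpowers (φ a : G) : Subgroup G) : Set G)) : ℂ) *
          T M (delta G) 1 (below p P eP (Subgroup.zpowers (φ a : G))) =
            (Nat.card P : ℂ) * n ^ 2 ∧
        (f a = d χ₀ ∨ f a = -d χ₀) := by
  haveI := Fintype.ofFinite ↥(Subgroup.centralizer (P : Set G))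
  obtain ⟨i, hii, hifix, hibr, η, j', hj'', hj', hunit⟩ := exists_source hM hB hmax hab hfree hP1
  have hbase : ∀ n μ : ℕ, Rel p P eP i P n μ → ¬ p ∣ μ := by
    intro n μ hrel hd
    obtain ⟨j, -, hj, -, hall, -⟩ :=
      exists_local_rel hM hB hmax hab hfree hii hifix hibr le_rfl hP1
    obtain ⟨n', μ', d, hrel', hint, hT⟩ := hall 1 (one_mem _)
    rw [OneMemClass.coe_one, Subgroup.zpowers_one_eq_bot, sup_bot_eq] at hrel'
    obtain ⟨-, rfl⟩ := hrel.unique hrel'
    obtain rfl : j = j' := emb_injective (φ := (Subgroup.centralizer (P : Set G)).subtype)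
      (Subgroup.subtype_injective _) (hj.trans hj'.symm)
    refine hunit ?_
    rw [hT η]
    exact CfsgLib.Blocks.memLocalIdeal_mul_left
      (CfsgLib.Blocks.memLocalRing_of_isIntegral (hint η))
      ((CfsgLib.Blocks.memLocalIdeal_natCast_iff hM μ).2 hd)
  obtain ⟨Φ, hΦ, hΦi, hΦ0, hΦv⟩ :=
    exists_signed hM hB hmax hab hfree hii hifix hibr φ hbase
  set f := (fun a => T M (χ₀ : G → ℂ) (φ a : G) i) * fun a => (Φ a)⁻¹ with hf
  have hfm : f ∈ gs A (rl M) :=
    mul_mem (isGen_mem _ (isGen_T hii hifix hii hifix χ₀ φ.toMonoidHom)) hΦi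
  have hA : IsPGroup p A := hmax.1.1.2.1.of_equiv φ.symm
  have hdata : ∀ a, a ≠ 1 → ∃ (n : ℕ) (d : IrrCharacter G → ℂ), n ≠ 0 ∧
      (∀ χ, IsIntegral ℤ (d χ)) ∧
      (∀ χ η : IrrCharacter G,
        cval p P eP (χ : G → ℂ) (η : G → ℂ) (φ a : G) = d χ * conj (d η)) ∧
      (∀ χ : IrrCharacter G,
        T M (χ : G → ℂ) (φ a : G) (below p P eP (Subgroup.zpowers (φ a : G))) = d χ * n) ∧
      (Nat.card ↥(Subgroup.centralizer
          ((Subgroup.zpowers (φ a : G) : Subgroup G) : Set G)) : ℂ) *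
        T M (delta G) 1 (below p P eP (Subgroup.zpowers (φ a : G))) =
          (Nat.card P : ℂ) * n ^ 2 ∧
      (f a = d χ₀ ∨ f a = -d χ₀) := by
    intro a ha
    have hw : (φ a : G) ≠ 1 := fun h => ha (φ.injective (by rw [map_one]; exact Subtype.ext h))
    obtain ⟨n, d, hn, hint, hcv, hTe, hbe, hall⟩ := exists_local_data hM hB hmax hab (φ a).2
      (nilpBelow hM hB hmax hab hfree (φ a).2 hw)
    obtain ⟨μ, hT, hnu⟩ := hall i hii (hifix _ (φ a).2)
      (hibr _ (Subgroup.zpowers_le.2 (φ a).2))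
    refine ⟨n, d, hn, hint, hcv, hTe, hbe, ?_⟩
    obtain ⟨hμ, hv⟩ := hΦv a ha n μ ⟨hn, hnu, hbe⟩
    have hμ0 : (μ : ℂ) ≠ 0 := Nat.cast_ne_zero.2 fun h0 => hμ (h0 ▸ dvd_zero p)
    rcases hv with hv | hv
    · left; rw [hf, Pi.mul_apply, hT χ₀, hv, mul_inv_cancel_right₀ hμ0]
    · right; rw [hf, Pi.mul_apply, hT χ₀, hv, inv_neg, mul_neg, mul_inv_cancel_right₀ hμ0]
  have hu : ∀ a, a ≠ 1 → ¬ Cfsg.MemLocalIdeal M (f a) := by
    intro a ha hI
    obtain ⟨n, d, -, hint, hcv, -, -, hfd⟩ := hdata a ha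
    haveI := Fintype.ofFinite ↥(Subgroup.centralizer ({(φ a : G)} : Set G))
    obtain ⟨hk, g, hg, hind, hle⟩ := exists_sub hM hB hmax (φ a).2
    have hcent : (φ a : G) ∈ Subgroup.centralizer (P : Set G) := hab (φ a).2
    refine BlocksCharsC.subContrib_unit hM hk hB hind hχ₀ hχ₀ h0 h0 ?_
    rw [← cval_eq_subContrib hM hB hmax hg hle
      (card_inf_cent_central hM hB hmax hcent hg hle)
      (Characters.isClassFunction_of_isIrr χ₀.2) (Characters.isClassFunction_of_isIrr χ₀.2),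
      hcv χ₀ χ₀]
    have hloc : Cfsg.MemLocalRing M (conj (d χ₀)) :=
      CfsgLib.Blocks.memLocalRing_of_isIntegral ((hint χ₀).map (starRingEnd ℂ).toIntAlgHom)
    refine CfsgLib.Blocks.memLocalIdeal_mul_right ?_ hloc
    rcases hfd with e | e
    · rwa [← e]
    · rw [← neg_neg (d χ₀), ← e]
      exact CfsgLib.Blocks.memLocalIdeal_neg hI
  have hall : ∀ a, ¬ Cfsg.MemLocalIdeal M (f a) := by
    intro a
    by_cases ha : a = 1
    · subst ha
      obtain ⟨⟨x, hx⟩, hx1⟩ := P.ne_bot_iff_exists_ne_one.1 hP1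
      set b := φ.symm ⟨x, hx⟩
      have hb : b ≠ 1 := fun h => hx1 (by
        rw [← φ.apply_symm_apply ⟨x, hx⟩]
        exact (congrArg φ h).trans (map_one φ))
      intro hI
      refine hu b hb ?_
      have := CfsgLib.Blocks.memLocalIdeal_add (value_cong hM (mem_gs_rl.1 hfm).2 hA b) hI
      rwa [sub_add_cancel] at this
    · exact hu a ha
  exact ⟨f, hfm, inv_mem_rl hfm hall, hall, hdata⟩

omit hii hifix hibr in
/-- The invariant root. -/
theorem exists_invariant_sqrt (hP1 : P ≠ ⊥) {χ₀ : IrrCharacter G} (hχ₀ : χ₀ ∈ B)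
    (h0 : Cfsg.blockHeight p B (χ₀ : G → ℂ) = 0) (E : Subgroup (MulAut A)) [Fintype E]
    (hE : ∀ σ ∈ E, ∃ t ∈ stab ⊤ P eP, ∀ a, (φ (σ a) : G) = t * (φ a : G) * t⁻¹)
    (hdvd : Nat.card E ∣ Nat.card A - 1) :
    ∃ u : A → ℂ, u ∈ gs A (rl M) ∧ (fun a => (u a)⁻¹) ∈ gs A (rl M) ∧
      (∀ a, ¬ Cfsg.MemLocalIdeal M (u a)) ∧ (∀ σ ∈ E, ∀ a, u (σ a) = u a) ∧
      ∀ a, a ≠ 1 → ∃ d : IrrCharacter G → ℂ, (∀ χ, IsIntegral ℤ (d χ)) ∧
        (∀ χ η : IrrCharacter G,
          cval p P eP (χ : G → ℂ) (η : G → ℂ) (φ a : G) = d χ * conj (d η)) ∧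
        (u a = d χ₀ ∨ u a = -d χ₀) := by
  classical
  obtain ⟨f, hf, hfi, hfu, hfd⟩ := exists_sqrt hM hB hmax hab hfree φ hP1 hχ₀ h0
  have hA : IsPGroup p A := hmax.1.1.2.1.of_equiv φ.symm
  have hsq : ∀ σ ∈ E, ∀ a, f (σ a) ^ 2 = f a ^ 2 := by
    intro σ hσ a
    by_cases ha : a = 1
    · rw [ha, map_one]
    have ha' : σ a ≠ 1 := fun h => ha (σ.injective (h.trans (map_one σ).symm))
    obtain ⟨t, ht, htσ⟩ := hE σ hσ
    obtain ⟨n, d, hn, -, -, hT, hbe, hfa⟩ := hfd a ha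
    obtain ⟨n', d', hn', -, -, hT', hbe', hfa'⟩ := hfd (σ a) ha'
    have hblk := mem_blocks.1 (below_mem_blocks hmax (φ a).2)
    have hbel : below p P eP (Subgroup.zpowers (φ (σ a) : G)) =
        conjA (Res M) t (below p P eP (Subgroup.zpowers (φ a : G))) := by
      refine below_eq hmax ?_
      have h := (le_below hmax (φ a).2).conjA (x := t) (Subgroup.mem_top _)
      rwa [Star.cj_zpowers, cj_eq_self (stab_le_normalizer ht), (mem_stab.1 ht).2, ← htσ] at h
    have hcard : Nat.card ↥(Subgroup.centralizer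
        ((Subgroup.zpowers (φ (σ a) : G) : Subgroup G) : Set G)) =
        Nat.card ↥(Subgroup.centralizer ((Subgroup.zpowers (φ a : G) : Subgroup G) : Set G)) := by
      rw [htσ, ← Star.cj_zpowers, ← cent_top, ← cent_top, ← cj_cent_top, card_cj]
    have hn2 : (n' : ℂ) ^ 2 = (n : ℂ) ^ 2 := by
      have h1 := T_conj (f := delta G) (isClassFunction_delta G) (t := t) (z := 1)
        hblk.idem (conjA_one_left _)
      rw [mul_one, mul_inv_cancel, ← hbel] at h1
      rw [h1, hcard, hbe] at hbe'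
      exact (mul_left_cancel₀ (Nat.cast_ne_zero.2 Nat.card_pos.ne') hbe').symm
    have hwC : (φ a : G) ∈ cent ⊤ (Subgroup.zpowers (φ a : G)) := by
      rw [Star.cent_zpowers]
      exact Subgroup.mem_centralizer_singleton_iff.2 rfl
    have hTT : d' χ₀ * n' = d χ₀ * n := by
      rw [← hT' χ₀, ← hT χ₀, hbel, htσ]
      exact T_conj (Characters.isClassFunction_of_isIrr χ₀.2) hblk.idem (hblk.fixed _ hwC)
    have hd2 : d' χ₀ ^ 2 = d χ₀ ^ 2 := by
      have h3 := congrArg (· ^ 2) hTT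
      simp only [mul_pow, hn2] at h3
      exact mul_right_cancel₀ (pow_ne_zero 2 (Nat.cast_ne_zero.2 hn)) h3
    have hl : f (σ a) ^ 2 = d' χ₀ ^ 2 := by rcases hfa' with e | e <;> rw [e] <;> ring
    have hr : f a ^ 2 = d χ₀ ^ 2 := by rcases hfa with e | e <;> rw [e] <;> ring
    rw [hl, hr, hd2]
  by_cases hp2 : p = 2
  · have hodd : Odd (Nat.card E) := by
      obtain ⟨N, hN⟩ := IsPGroup.iff_card.1 hA
      have hN0 : N ≠ 0 := by
        rintro rfl
        refine hP1 (Subgroup.eq_bot_of_card_eq _ ?_)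
        rw [← Nat.card_congr φ.toEquiv, hN, pow_zero]
      have : Odd (Nat.card A - 1) := by
        rw [hN, hp2]
        exact Nat.Even.sub_odd (Nat.one_le_two_pow) (Even.pow_of_ne_zero even_two hN0) odd_one
      exact this.of_dvd_nat hdvd
    obtain ⟨k, hk⟩ := hodd
    set u : A → ℂ := (∏ σ : E, fun a => f ((σ : MulAut A) a)) * (fun a => (f a)⁻¹) ^ (2 * k)
    have hu2 : ∀ a, u a ^ 2 = f a ^ 2 := fun a => by
      have hf0 : f a ≠ 0 := ne_zero_of_not_ideal (hfu a)
      simp only [u, Pi.mul_apply, Finset.prod_apply, Pi.pow_apply, mul_pow, ← Finset.prod_pow]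
      rw [Finset.prod_congr rfl fun (σ : E) _ => hsq σ σ.2 a, Finset.prod_const, Finset.card_univ,
        ← Nat.card_eq_fintype_card, hk, pow_succ, inv_pow, inv_pow]
      field_simp
      ring
    have hum : u ∈ gs A (rl M) := mul_mem
      ((gs A (rl M)).prod_mem fun σ _ => comp_mem hf (σ : MulAut A)) (pow_mem hfi _)
    have huu : ∀ a, ¬ Cfsg.MemLocalIdeal M (u a) := fun a hI => by
      have hloc := value_mem (mem_gs_rl.1 hum).2 a
      have h := CfsgLib.Blocks.memLocalIdeal_mul_right hI hloc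
      rw [← sq, hu2, sq] at h
      exact not_ideal_mul (value_mem (mem_gs_rl.1 hf).2 a) (value_mem (mem_gs_rl.1 hf).2 a)
        (hfu a) (hfu a) h
    refine ⟨u, hum, inv_mem_rl hum huu, huu, fun σ hσ a => ?_, fun a ha => ?_⟩
    · simp only [u, Pi.mul_apply, Finset.prod_apply, Pi.pow_apply]
      rw [show ((f (σ a))⁻¹) ^ (2 * k) = ((f a)⁻¹) ^ (2 * k) by
        simp only [pow_mul, inv_pow, hsq σ hσ a]]
      congr 1
      exact Fintype.prod_equiv (Equiv.mulRight (⟨σ, hσ⟩ : E)) _ _ fun τ => rfl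
    · obtain ⟨n, d, -, hint, hcv, -, -, hfa⟩ := hfd a ha
      refine ⟨d, hint, hcv, ?_⟩
      have hr : f a ^ 2 = d χ₀ ^ 2 := by rcases hfa with e | e <;> rw [e] <;> ring
      exact sq_eq_sq_iff_eq_or_eq_neg.1 ((hu2 a).trans hr)
  · refine ⟨f, hf, hfi, hfu, fun σ hσ a => ?_, fun a ha => ?_⟩
    · by_contra hne
      have h1 := (sq_eq_sq_iff_eq_or_eq_neg.1 (hsq σ hσ a)).resolve_left hne
      have hc := CfsgLib.Blocks.memLocalIdeal_add
        (value_cong hM (mem_gs_rl.1 hf).2 hA a)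
        (CfsgLib.Blocks.memLocalIdeal_neg (value_cong hM (mem_gs_rl.1 hf).2 hA (σ a)))
      rw [h1, show f a - f 1 + -(-f a - f 1) = (2 : ℕ) * f a by push_cast; ring] at hc
      exact not_ideal_mul (CfsgLib.Blocks.memLocalRing_natCast 2)
        (value_mem (mem_gs_rl.1 hf).2 a)
        (fun h => hp2 ((Nat.prime_dvd_prime_iff_eq hp.out Nat.prime_two).1
          ((CfsgLib.Blocks.memLocalIdeal_natCast_iff hM 2).1 h))) (hfu a) hc
    · obtain ⟨n, d, -, hint, hcv, -, -, hfa⟩ := hfd a ha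
      exact ⟨d, hint, hcv, hfa⟩

end CfsgLib.FreeInertia
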