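import Cfsg.Agent.FreeInertia.Fourier
import Cfsg.Agent.FreeInertia.Sqrt
import Cfsg.Agent.FreeInertia.Orbits
import Cfsg.Agent.FreeInertia.Lattice
import Cfsg.Agent.InertialQuotient.RankTransport
import Cfsg.Agent.GaloisAverage.Basic
import Cfsg.Agent.S4689

/-!
# The number of characters and the rank for a freely acting inertial quotient

`exists_gram` attaches to the members of a block with abelian defect group `P` and freely acting
inertial quotient `E` integral rows indexed by the orbits of `E` on the non-principal linear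
characters of `P`, with Gram matrix `1 + e J`; `card_eq_rank_add` gives `k = l + m`; `counts`
combines the two.
-/

set_option autoImplicit false
set_option linter.unusedSectionVars false
set_option linter.style.haveILetI false
set_option maxHeartbeats 800000

namespace CfsgLib.FreeInertia

open Cfsg CfsgLib.BlockPairs CfsgLib.Star
open CfsgLib.InertialQuotient (ocard rk rkE_sblk)
open CfsgLib.Blocks (localRing Res)
open scoped ComplexConjugate

universe u

variable {G : Type u} [Group G] [Fintype G] {M : Ideal AlgInt} [M.IsPrime] {p : ℕ}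
  [hp : Fact p.Prime] [CharP (Res M) p] [IsAlgClosed (Res M)]
  {B : Set (IrrCharacter G)} {P : Subgroup G} {eP : GA (Res M) G}
  {A : Type u} [CommGroup A] [Fintype A] (φ : A ≃* P) {E : Subgroup (MulAut A)} [Fintype E]
  (hM : Cfsg.IsPModular p M) (hB : Cfsg.IsPBlock M B)
  (hmax : IsMaxPair p ⊤ (gblk M B) P eP) (hab : P ≤ Subgroup.centralizer (P : Set G))
  (hfree : ∀ t ∈ stab ⊤ P eP, ∀ x ∈ P, x ≠ 1 → t * x * t⁻¹ = x →
    t ∈ Subgroup.centralizer (P : Set G))
  (hE : ∀ σ ∈ E, ∃ t ∈ stab ⊤ P eP, ∀ a, (φ (σ a) : G) = t * (φ a : G) * t⁻¹)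
  (hE' : ∀ t ∈ stab ⊤ P eP, ∃ σ ∈ E, ∀ a, (φ (σ a) : G) = t * (φ a : G) * t⁻¹)
  (hsemi : ∀ σ ∈ E, ∀ a, a ≠ 1 → σ a = a → σ = 1)

/-- A function on `A` as a function on the whole group. -/
noncomputable def ext (g : A → ℂ) : G → ℂ := Cfsg.extendByZero P fun w => g (φ.symm w)

theorem ext_apply (g : A → ℂ) (a : A) : ext φ g (φ a : G) = g a := by
  rw [ext, Characters.extendByZero_coe, φ.symm_apply_apply]

include hE hE' hsemi in
/-- The orbit of a non-identity element is as long as `E`. -/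
theorem ocard_eq {a : A} (ha : a ≠ 1) : ocard (stab ⊤ P eP) (φ a : G) = Nat.card E := by
  refine (Nat.card_congr (Equiv.ofBijective
    (fun σ : E => (⟨(φ ((σ : MulAut A) a) : G), ?_⟩ :
      InertialQuotient.orb (stab ⊤ P eP) (φ a : G))) ⟨?_, ?_⟩)).symm
  · obtain ⟨t, ht, h⟩ := hE σ σ.2
    exact ⟨t, ht, (h a).symm⟩
  · intro σ τ he
    have he' : (σ : MulAut A) a = (τ : MulAut A) a := by
      refine φ.injective (Subtype.ext ?_)
      simpa using congrArg Subtype.val he
    refine Subtype.ext (inv_mul_eq_one.1 ?_).symm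
    refine hsemi _ (mul_mem (inv_mem τ.2) σ.2) a ha ?_
    rw [MulAut.mul_apply, he', MulAut.inv_apply_self]
  · rintro ⟨v, t, ht, rfl⟩
    obtain ⟨σ, hσ, h⟩ := hE' t ht
    exact ⟨⟨σ, hσ⟩, Subtype.ext (h a)⟩

theorem ocard_one : ocard (stab ⊤ P eP) ((φ 1 : P) : G) = 1 :=
  InertialQuotient.ocard_of_fixed fun t _ => by simp

open Classical in
theorem sum_over_P (F : G → ℂ) : ∑ w : P, F (w : G) = ∑ a : A, F (φ a : G) :=
  (Fintype.sum_equiv φ.toEquiv _ _ fun _ => rfl).symm

include hB hmax hab hE'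

theorem isInvariant_ext {g : A → ℂ} (hg : ∀ σ ∈ E, ∀ a, g (σ a) = g a) :
    IsInvariant p P eP (ext φ g) :=
  InertialQuotient.isInvariant_of_stab hB hmax hab fun t ht w hw => by
    obtain ⟨σ, hσ, h⟩ := hE' t ht
    obtain ⟨a, ha⟩ := φ.surjective ⟨w, hw⟩
    obtain rfl : (φ a : G) = w := congrArg Subtype.val ha
    rw [← h, ext_apply, ext_apply, hg σ hσ]

include hM

/-- The contributions as a function on `A` are invariant. -/
theorem cval_inv (χ ψ : IrrCharacter G) {σ : MulAut A}
    (hσ : ∃ t ∈ stab ⊤ P eP, ∀ a, (φ (σ a) : G) = t * (φ a : G) * t⁻¹) (a : A) :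
    cval p P eP (χ : G → ℂ) (ψ : G → ℂ) (φ (σ a) : G) =
      cval p P eP (χ : G → ℂ) (ψ : G → ℂ) (φ a : G) := by
  obtain ⟨t, ht, h⟩ := hσ
  rw [h, cval_stab hM hB hmax hab ht (φ a).2 (Characters.isClassFunction_of_isIrr χ.2)
    (Characters.isClassFunction_of_isIrr ψ.2)]

include hfree hE hsemi

omit hE' hfree hE hsemi in
theorem cval_ne_zero {χ χ₀ : IrrCharacter G} (hχ : χ ∈ B) (hχ₀ : χ₀ ∈ B)
    (h0 : Cfsg.blockHeight p B (χ₀ : G → ℂ) = 0) (w : P) :
    cval p P eP (χ : G → ℂ) (χ₀ : G → ℂ) (w : G) ≠ 0 := by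
  classical
  haveI := Fintype.ofFinite ↥(Subgroup.centralizer ({(w : G)} : Set G))
  have hwc := hab w.2
  obtain ⟨hk, f, hf, hind, hfle⟩ := exists_sub hM hB hmax w.2
  obtain ⟨k', hk'⟩ := id hk
  have hdf := blockDefect_sub hM hB hmax (fun y hy => Subgroup.mem_centralizer_singleton_iff.2
    (Subgroup.mem_centralizer_iff.1 hwc y hy)) hf hfle
  rw [cval_eq_subContrib hM hB hmax hf hfle (card_inf_cent_central hM hB hmax hwc hf hfle)
    (Characters.isClassFunction_of_isIrr χ.2) (Characters.isClassFunction_of_isIrr χ₀.2)]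
  exact BlocksCharsC.subContrib_ne_zero hM hB hind hdf hk' hχ hχ₀ h0

open Classical in
/-- The rows. -/
theorem exists_gram {m : ℕ} (hm : m * Nat.card E + 1 = Nat.card A) (hA1 : 1 < Nat.card A) :
    ∃ (O : Type u) (_ : Fintype O) (X : B → O → ℤ), Fintype.card O = m ∧
      (∀ η, ∃ o, X η o ≠ 0) ∧
      (∀ o o', ∑ η, X η o * X η o' = (if o = o' then 1 else 0) + (Nat.card E : ℤ)) ∧
      (p ∣ Nat.card E + 1 → ¬ ∀ η, ((Nat.card E : ℤ) + 1) ∣ ∑ o, X η o) := by
  obtain ⟨R, hR1, hRc, huniq, hcover⟩ := exists_orbit_reps (E := E) hsemi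
  have hPA : Nat.card A = Nat.card P := Nat.card_congr φ.toEquiv
  have hP1 : P ≠ ⊥ := fun h => by
    rw [hPA, h, Subgroup.card_bot] at hA1
    exact lt_irrefl 1 hA1
  obtain ⟨χ₀, hχ₀, hmin, -⟩ := BlockPairing.exists_minimal (p := p) hB
  have h0 : Cfsg.blockHeight p B (χ₀ : G → ℂ) = 0 := by
    rw [Cfsg.blockHeight, Nat.sub_eq_zero_iff_le]
    refine le_csInf (Set.image_nonempty.2 ⟨χ₀, hχ₀⟩) ?_
    rintro _ ⟨η, hη, rfl⟩
    exact hmin η hη
  have hdvd : Nat.card E ∣ Nat.card A - 1 := by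
    rw [← hm, Nat.add_sub_cancel]
    exact dvd_mul_left _ _
  obtain ⟨u, hu, hui, huu, huinv, hud⟩ :=
    exists_invariant_sqrt hM hB hmax hab hfree φ hP1 hχ₀ h0 E hE hdvd
  have hu0 : ∀ a, u a ≠ 0 := fun a => ne_zero_of_not_ideal (huu a)
  set e := Nat.card E with he
  have he0 : (e : ℂ) ≠ 0 := Nat.cast_ne_zero.2 Nat.card_pos.ne'
  have hA0 : (Nat.card A : ℂ) ≠ 0 := Nat.cast_ne_zero.2 Nat.card_pos.ne'
  have hoc : ∀ a : A, a ≠ 1 → (ocard (stab ⊤ P eP) (φ a : G) : ℂ) = e := fun a ha => by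
    rw [ocard_eq φ hE hE' hsemi ha]
  -- the contributions of a member with the chosen one
  let c : IrrCharacter G → A → ℂ := fun η a => cval p P eP (η : G → ℂ) (χ₀ : G → ℂ) (φ a : G)
  let F : IrrCharacter G → A → ℂ := fun η a => if a = 1 then (e : ℂ) * c η 1 else c η a
  let f : IrrCharacter G → A → ℂ := fun η a => F η a * (conj (u a))⁻¹
  have hcinv : ∀ η, ∀ σ ∈ E, ∀ a, c η (σ a) = c η a := fun η σ hσ a =>
    cval_inv φ hM hB hmax hab hE' η χ₀ (hE σ hσ) a
  have hσ1 : ∀ (σ : MulAut A) a, σ a = 1 ↔ a = 1 := fun σ a => by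
    constructor
    · intro h; exact σ.injective (h.trans (map_one σ).symm)
    · rintro rfl; exact map_one σ
  have hfinv : ∀ η, ∀ σ ∈ E, ∀ a, f η (σ a) = f η a := by
    intro η σ hσ a
    simp only [f, F, hσ1, huinv σ hσ a, hcinv η σ hσ a]
  -- integrality away from one
  have hlocal : ∀ a, a ≠ 1 → ∃ d : IrrCharacter G → ℂ, (∀ η, IsIntegral ℤ (d η)) ∧
      (∀ η : IrrCharacter G, f η a = d η) ∧
      (∀ η : IrrCharacter G, cval p P eP (χ₀ : G → ℂ) (η : G → ℂ) (φ a : G) = u a * conj (d η)) ∧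
      d χ₀ = u a := by
    intro a ha
    obtain ⟨d, hd, hcv, hs⟩ := hud a ha
    rcases hs with hs | hs
    · refine ⟨d, hd, fun η => ?_, fun η => by rw [hcv, hs], hs.symm⟩
      simp only [f, F, if_neg ha, c, hcv]
      rw [hs, mul_assoc, mul_inv_cancel₀ (by rw [← hs]; exact (map_ne_zero _).2 (hu0 a)), mul_one]
    · refine ⟨fun η => -d η, fun η => (hd η).neg, fun η => ?_, fun η => by
        rw [hcv, hs, map_neg, neg_mul_neg], by rw [hs]⟩
      simp only [f, F, if_neg ha, c, hcv]
      rw [hs, map_neg, inv_neg, mul_neg, mul_assoc,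
        mul_inv_cancel₀ ((map_ne_zero _).2 fun h => hu0 a (by rw [hs, h, neg_zero])), mul_one]
  -- the rational coefficients
  have hsum : ∀ (η : IrrCharacter G) (g : A → ℂ), (∀ σ ∈ E, ∀ a, g (σ a) = g a) → ∀ l : A →* ℂˣ,
      ∑ a, g a * ∑ σ : E, (l ((σ : MulAut A) a) : ℂ) = (e : ℂ) * ∑ a, g a * (l a : ℂ) := by
    intro η g hg l
    simp only [Finset.mul_sum]
    rw [Finset.sum_comm]
    have h1 : ∀ σ : E, ∑ a, g a * (l ((σ : MulAut A) a) : ℂ) = ∑ a, g a * (l a : ℂ) := fun σ =>
      Fintype.sum_equiv (σ : MulAut A).toEquiv _ _ fun a => by simp [hg σ σ.2 a]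
    simp only [h1, Finset.sum_const, Finset.card_univ, nsmul_eq_mul, ← Finset.mul_sum]
    rw [← Nat.card_eq_fintype_card]
  have hFint : ∀ η : IrrCharacter G, F η ∈ gs A (rl M) := by
    intro η l
    let g : A → ℂ := fun a => ∑ σ : E, (pre (σ : MulAut A) l⁻¹ a : ℂ)
    have hg : ∀ τ ∈ E, ∀ a, g (τ a) = g a := fun τ hτ a =>
      Fintype.sum_equiv (Equiv.mulRight (⟨τ, hτ⟩ : E)) _ _ fun σ => rfl
    have hgen : Cfsg.IsGeneralizedCharacter P fun w : P => ext φ g (w : G) := by
      have h1 := Characters.isGen_sum (Finset.univ : Finset E)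
        (fun σ w => (((pre (σ : MulAut A) l⁻¹).comp φ.symm.toMonoidHom) w : ℂ)) fun σ _ =>
          Characters.isGen_of_isIrr (Characters.isIrr_linChar _)
      convert h1 using 1
      funext w
      obtain ⟨a, rfl⟩ := φ.surjective w
      rw [ext_apply, Finset.sum_apply]
      simp [g]
    obtain ⟨z, hz⟩ := Characters.classInner_gen
      (isGen_star hM (isBlock_gblk hB) hmax (isInvariant_ext φ hB hmax hab hE' hg) hgen
        (Characters.isCharacter_of_isIrr η.2)) (Characters.isGen_of_isIrr χ₀.2)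
    rw [classInner_star hM hB hmax hab (isInvariant_ext φ hB hmax hab hE' hg)
      (Characters.isClassFunction_of_isIrr η.2) hχ₀,
      sum_over_P φ (fun w => ext φ g w * cval p P eP (η : G → ℂ) (χ₀ : G → ℂ) w /
        (ocard (stab ⊤ P eP) w : ℂ))] at hz
    suffices h : coef (F η) l = (z : ℂ) by rw [h]; exact intCast_mem _ z
    have hkey : ∀ a, ext φ g (φ a : G) * c η a / (ocard (stab ⊤ P eP) (φ a : G) : ℂ) =
        F η a * g a / (e : ℂ) := by
      intro a
      rw [ext_apply]
      by_cases ha : a = 1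
      · subst ha
        rw [ocard_one]
        simp only [F, if_pos rfl]
        push_cast
        field_simp
      · simp only [F, if_neg ha, hoc a ha]
        ring
    rw [← hz, coef, ← hPA, Finset.sum_congr rfl fun a _ => hkey a, ← Finset.sum_div]
    congr 1
    rw [eq_div_iff he0, mul_comm]
    refine ((hsum η (F η) (fun σ hσ a => ?_) l⁻¹).trans ?_).symm
    · simp only [F, hσ1, hcinv η σ hσ a]
    · congr 1
      exact Finset.sum_congr rfl fun a _ => by rw [conj_lin, MonoidHom.inv_apply, map_inv]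
  have hf : ∀ η, f η ∈ gs A (rl M) := fun η => by
    have h2 : (fun a => (conj (u a))⁻¹) ∈ gs A (rl M) := by
      have h := conj_mem_rl hui
      simp only [map_inv₀] at h
      exact h
    exact mul_mem (hFint η) h2
  have hA : IsPGroup p A := hmax.1.1.2.1.of_equiv φ.symm
  have hint : ∀ η r, ∃ z : ℤ, coef (f η) r - coef (f η) 1 = (z : ℂ) := by
    intro η r
    obtain ⟨⟨q, hq⟩, hqL⟩ := mem_rl.1 ((rl M).sub_mem (hf η r) (hf η 1))
    have hI : IsIntegral ℤ ((Nat.card A : ℂ) * (coef (f η) r - coef (f η) 1)) := by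
      rw [coef, coef, ← mul_sub, ← mul_assoc, mul_inv_cancel₀ hA0, one_mul,
        ← Finset.sum_sub_distrib]
      refine IsIntegral.sum _ fun a _ => ?_
      by_cases ha : a = 1
      · subst ha; simp [isIntegral_zero]
      · obtain ⟨d, hd, hfd, -, -⟩ := hlocal a ha
        rw [hfd, ← mul_sub, conj_lin, conj_lin]
        exact (hd η).mul ((isIntegral_lin _ _).sub (isIntegral_lin _ _))
    obtain ⟨z, hz⟩ := GaloisAverage.exists_int_of_isIntegral_ratCast
      (q := (Nat.card A : ℚ) * q) (by push_cast; rw [hq]; exact hI)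
    push_cast at hz
    rw [hq] at hz
    obtain ⟨N, hN⟩ := IsPGroup.iff_card.1 hA
    obtain ⟨y, hy⟩ := Star.pow_dvd_of_eq_mul hM N z _ hqL (by
      rw [← hz, hN, Nat.cast_pow])
    refine ⟨y, mul_left_cancel₀ hA0 ?_⟩
    rw [hz, hy, hN]
    push_cast
    ring
  choose X hX using hint
  refine ⟨R, inferInstance, fun η o => X η o, ?_, ?_, ?_, ?_⟩
  · rw [Fintype.card_coe]
    exact Nat.eq_of_mul_eq_mul_right Nat.card_pos (Nat.add_right_cancel (hRc.trans hm.symm))
  · -- no zero row
    intro η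
    by_contra hcon
    push Not at hcon
    have hK : ∀ l, coef (f (η : IrrCharacter G)) l = coef (f (η : IrrCharacter G)) 1 := by
      intro l
      by_cases hl : l = 1
      · rw [hl]
      obtain ⟨r, hr, σ, hσ, rfl⟩ := hcover l hl
      have h := hX η r
      rw [hcon ⟨r, hr⟩, Int.cast_zero, sub_eq_zero] at h
      rw [← h]
      conv_rhs => rw [show f (η : IrrCharacter G) = fun a => f (η : IrrCharacter G) (σ⁻¹ a) from
        funext fun a => (hfinv η σ⁻¹ (inv_mem hσ) a).symm, coef_comp]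
      rfl
    obtain ⟨a, ha⟩ : ∃ a : A, a ≠ 1 := by
      haveI := Finite.one_lt_card_iff_nontrivial.1 hA1
      exact exists_ne 1
    refine cval_ne_zero hM hB hmax hab η.2 hχ₀ h0 (φ a) ?_
    have h := sum_coef (f (η : IrrCharacter G)) a
    simp only [hK, ← Finset.mul_sum, BlocksFrobenius.sum_dual_apply, if_neg ha, mul_zero] at h
    have h' : (F (η : IrrCharacter G) a) * (conj (u a))⁻¹ = 0 := h.symm
    simpa only [F, if_neg ha, mul_eq_zero, inv_eq_zero, map_eq_zero, hu0 a, or_false] using h'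
  · -- the Gram matrix
    intro o o'
    let g : R → A → ℂ := fun o a =>
      ((∑ σ : E, (o.1 ((σ : MulAut A) a) : ℂ)) - (e : ℂ)) / u a
    have hg : ∀ o, ∀ τ ∈ E, ∀ a, g o (τ a) = g o a := fun o τ hτ a => by
      simp only [g, huinv τ hτ a]
      congr 2
      exact Fintype.sum_equiv (Equiv.mulRight (⟨τ, hτ⟩ : E)) _ _ fun σ => rfl
    have hg1 : ∀ o, g o 1 = 0 := fun o => by
      simp [g, e, Nat.card_eq_fintype_card]
    have hinv := fun o => isInvariant_ext φ hB hmax hab hE' (hg o)
    have hrow : ∀ (η : B) (o : R),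
        Cfsg.classInner (star p P eP (ext φ (g o)) (χ₀ : G → ℂ)) ((η : IrrCharacter G) : G → ℂ) =
          (X η o : ℂ) := by
      intro η o
      have h0' : conj ((X η o : ℤ) : ℂ) = (X η o : ℂ) := map_intCast _ _
      rw [classInner_star hM hB hmax hab (hinv o) (Characters.isClassFunction_of_isIrr χ₀.2) η.2,
        sum_over_P φ (fun w => ext φ (g o) w *
          cval p P eP (χ₀ : G → ℂ) ((η : IrrCharacter G) : G → ℂ) w /
          (ocard (stab ⊤ P eP) w : ℂ)), ← h0', ← hX, coef, coef, ← mul_sub, map_mul, map_inv₀,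
        map_natCast, ← hPA]
      congr 1
      have hterm : ∀ a, ext φ (g o) (φ a : G) *
          cval p P eP (χ₀ : G → ℂ) ((η : IrrCharacter G) : G → ℂ) (φ a : G) /
          (ocard (stab ⊤ P eP) (φ a : G) : ℂ) =
            conj (f (η : IrrCharacter G) a) * ((∑ σ : E, (o.1 ((σ : MulAut A) a) : ℂ)) - e) / e := by
        intro a
        rw [ext_apply]
        by_cases ha : a = 1
        · subst ha
          rw [hg1]
          simp [e, Nat.card_eq_fintype_card]
        · obtain ⟨d, -, hfd, hcv, -⟩ := hlocal a ha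
          rw [hfd, hcv, hoc a ha]
          simp only [g]
          have := hu0 a
          field_simp
      rw [Finset.sum_congr rfl fun a _ => hterm a, ← Finset.sum_div, div_eq_iff he0, map_sub,
        map_sum, map_sum, sub_mul, Finset.sum_mul, Finset.sum_mul, ← Finset.sum_sub_distrib]
      simp only [mul_sub, Finset.sum_sub_distrib]
      rw [hsum η (fun a => conj (f (η : IrrCharacter G) a))
        (fun σ hσ a => by simp only [hfinv η σ hσ a]) o.1, Finset.mul_sum]
      congr 1 <;> refine Finset.sum_congr rfl fun a _ => ?_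
      · simp only [map_mul, Complex.conj_conj]; ring
      · simp
    have hR := sum_orbit_sum_mul hsemi hR1 huniq o.2 o'.2
    have h := sum_star_coef hM hB hmax hab (ζ := ext φ (g o)) (χ := (χ₀ : G → ℂ)) (hinv o')
      (Characters.isClassFunction_of_isIrr χ₀.2)
    rw [classInner_star_star hM hB hmax hab (hinv o) (hinv o')
        (Characters.isClassFunction_of_isIrr χ₀.2) (Characters.isClassFunction_of_isIrr χ₀.2),
      sum_over_P φ (fun w => ext φ (g o) w * conj (ext φ (g o') w) *
          cval p P eP (χ₀ : G → ℂ) (χ₀ : G → ℂ) w / (ocard (stab ⊤ P eP) w : ℂ))] at h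
    apply Int.cast_injective (α := ℂ)
    push_cast
    rw [Finset.sum_subtype B.toFinset (p := fun x => x ∈ B) (fun x => Set.mem_toFinset)] at h
    simp only [hrow, map_intCast] at h
    rw [h, ← hPA]
    have hterm : ∀ a, ext φ (g o) (φ a : G) * conj (ext φ (g o') (φ a : G)) *
        cval p P eP (χ₀ : G → ℂ) (χ₀ : G → ℂ) (φ a : G) / (ocard (stab ⊤ P eP) (φ a : G) : ℂ) =
          ((∑ σ : E, (o.1 ((σ : MulAut A) a) : ℂ)) - e) *
            conj ((∑ σ : E, (o'.1 ((σ : MulAut A) a) : ℂ)) - e) / e := by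
      intro a
      rw [ext_apply, ext_apply]
      by_cases ha : a = 1
      · subst ha
        rw [hg1]
        simp [e, Nat.card_eq_fintype_card]
      · obtain ⟨d, -, -, hcv, hd0⟩ := hlocal a ha
        rw [hcv, hd0, hoc a ha]
        simp only [g, map_div₀]
        have h1 := hu0 a
        have h2 : conj (u a) ≠ 0 := (map_ne_zero _).2 h1
        field_simp
    rw [Finset.sum_congr rfl fun a _ => hterm a, ← Finset.sum_div, hR]
    by_cases hoo : o = o'
    · rw [if_pos hoo, if_pos (congrArg Subtype.val hoo)]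
      field_simp
      rfl
    · rw [if_neg hoo, if_neg fun h => hoo (Subtype.ext h)]
      field_simp
      rfl
  · -- the congruence
    intro hpe hall
    obtain ⟨a, ha⟩ : ∃ a : A, a ≠ 1 := by
      haveI := Finite.one_lt_card_iff_nontrivial.1 hA1
      exact exists_ne 1
    obtain ⟨y, hy⟩ := hall ⟨χ₀, hχ₀⟩
    have hfu : f χ₀ a = u a := by
      obtain ⟨d, -, hfd, -, hd0⟩ := hlocal a ha
      rw [hfd, hd0]
    set K := coef (f χ₀) 1
    have hsplit : f χ₀ 1 = (e : ℂ) * ((∑ o : R, X χ₀ o : ℤ) : ℂ) + (Nat.card A : ℂ) * K := by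
      have h1 := sum_coef (f χ₀) 1
      simp only [map_one, Units.val_one, mul_one] at h1
      have h2 : ∑ l, (coef (f χ₀) l - K) = (e : ℂ) * ((∑ o : R, X χ₀ o : ℤ) : ℂ) := by
        rw [← Finset.add_sum_erase _ _ (Finset.mem_univ (1 : A →* ℂˣ)), sub_self, zero_add]
        push_cast
        rw [Finset.sum_coe_sort R (fun r => (X χ₀ r : ℂ)), Finset.mul_sum]
        have hbij : ∑ l ∈ (Finset.univ : Finset (A →* ℂˣ)).erase 1, (coef (f χ₀) l - K) =
            ∑ x ∈ R ×ˢ (Finset.univ : Finset E),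
              (coef (f χ₀) (pre (x.2 : MulAut A) x.1) - K) := by
          refine (Finset.sum_bij (fun x _ => pre (x.2 : MulAut A) x.1) ?_ ?_ ?_ fun x _ => rfl).symm
          · exact fun x hx => Finset.mem_erase.2
              ⟨pre_ne_one _ (hR1 _ (Finset.mem_product.1 hx).1), Finset.mem_univ _⟩
          · intro x hx y hy he
            obtain ⟨e1, e2⟩ := huniq x.1 (Finset.mem_product.1 hx).1 y.1 (Finset.mem_product.1 hy).1
              x.2 x.2.2 y.2 y.2.2 he
            exact Prod.ext e1 (Subtype.ext e2)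
          · intro l hl
            obtain ⟨r, hr, σ, hσ, he⟩ := hcover l (Finset.mem_erase.1 hl).1
            exact ⟨(r, ⟨σ, hσ⟩), Finset.mem_product.2 ⟨hr, Finset.mem_univ _⟩, he⟩
        rw [hbij, Finset.sum_product]
        refine Finset.sum_congr rfl fun r _ => ?_
        rw [Finset.sum_congr rfl fun (σ : E) _ => show coef (f χ₀) (pre (σ : MulAut A) r) - K =
          (X χ₀ r : ℂ) by
          rw [← hX]
          congr 1
          conv_rhs => rw [show f χ₀ = fun a => f χ₀ ((σ : MulAut A)⁻¹ a) from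
            funext fun a => (hfinv χ₀ _ (inv_mem σ.2) a).symm, coef_comp]
          rfl, Finset.sum_const, Finset.card_univ, nsmul_eq_mul, ← Nat.card_eq_fintype_card]
      rw [Finset.sum_sub_distrib, h1, Finset.sum_const, Finset.card_univ, nsmul_eq_mul,
        ← Nat.card_eq_fintype_card, BlocksFrobenius.card_dual] at h2
      rw [← h2]; ring
    have hfI : Cfsg.MemLocalIdeal M (f χ₀ 1) := by
      rw [hsplit]
      refine Blocks.memLocalIdeal_add ?_ (Blocks.memLocalIdeal_mul_right ?_ (hf χ₀ 1).2)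
      · refine Blocks.memLocalIdeal_mul_left (Blocks.memLocalRing_natCast e) ?_
        refine (MajorSubsection.memLocalIdeal_intCast_iff hM _).2 ?_
        rw [hy]
        exact (Int.natCast_dvd_natCast.2 hpe).trans ⟨y, by push_cast; ring⟩
      · refine (Blocks.memLocalIdeal_natCast_iff hM _).2 ?_
        obtain ⟨N, hN⟩ := IsPGroup.iff_card.1 hA
        rw [hN]
        exact dvd_pow_self p fun h => by rw [hN, h, pow_zero] at hA1; exact lt_irrefl 1 hA1
    have hc := value_cong hM (mem_gs_rl.1 (hf χ₀)).2 hA a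
    have := Blocks.memLocalIdeal_add hc hfI
    rw [sub_add_cancel, hfu] at this
    exact huu a this

open Classical in
/-- Away from one the ranks are one. -/
theorem card_eq_rank_add {m : ℕ} (hm : m * Nat.card E + 1 = Nat.card A) :
    Nat.card B = Cfsg.blockRank p B + m := by
  have hrk : ∀ a : A, a ≠ 1 → rk p P eP (Subgroup.zpowers (φ a : G)) = 1 := by
    intro a ha
    have hw1 : (φ a : G) ≠ 1 := fun h => ha (φ.injective (Subtype.ext (by simpa using h)))
    have hn := nilpBelow hM hB hmax hab hfree (φ a).2 hw1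
    haveI := Fintype.ofFinite ↥(Subgroup.centralizer ({(φ a : G)} : Set G))
    obtain ⟨hk, f, hf, -, hle⟩ := exists_sub hM hB hmax (φ a).2
    have hC := InertialQuotient.centralizer_zpowers (φ a : G)
    have hnf : Cfsg.IsNilpotentBlock p M f := by
      refine (isNilpotentBlock_sblk_iff hf).2 ?_
      rw [NilpBelow, below_eq hmax hle, show Nilp p (Subgroup.centralizer
        ((Subgroup.zpowers (φ a : G) : Subgroup G) : Set G)) =
          Nilp p (Subgroup.centralizer ({(φ a : G)} : Set G)) by rw [hC]] at hn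
      exact hn
    rw [rk, below_eq hmax hle, hC, rkE_sblk hf, (Cfsg.Agent.S4689.result p M hM f hnf).1]
  have h := InertialQuotient.card_eq_sum hB hmax hab hM
  rw [sum_over_P φ (fun w => (rk p P eP (Subgroup.zpowers w) : ℂ) /
      (ocard (stab ⊤ P eP) w : ℂ)), ← Finset.add_sum_erase _ _ (Finset.mem_univ (1 : A))] at h
  rw [Finset.sum_congr rfl fun a ha => show (rk p P eP (Subgroup.zpowers (φ a : G)) : ℂ) /
      (ocard (stab ⊤ P eP) (φ a : G) : ℂ) = 1 / (Nat.card E : ℂ) by
    rw [hrk a (Finset.mem_erase.1 ha).1, ocard_eq φ hE hE' hsemi (Finset.mem_erase.1 ha).1,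
      Nat.cast_one], Finset.sum_const, Finset.card_erase_of_mem (Finset.mem_univ _),
    Finset.card_univ, ← Nat.card_eq_fintype_card, ocard_one, nsmul_eq_mul,
    InertialQuotient.rk_of_centralizer_top hB hmax hab hM
      (Subgroup.zpowers_le.2 (φ 1).2) (by
        refine eq_top_iff.2 fun g _ => Subgroup.mem_centralizer_iff.2 fun x hx => ?_
        simp only [map_one, OneMemClass.coe_one, Subgroup.zpowers_one_eq_bot, Subgroup.coe_bot,
          Set.mem_singleton_iff] at hx
        simp [hx]), Nat.cast_one, div_one, ← hm, Nat.add_sub_cancel] at h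
  apply Nat.cast_injective (R := ℂ)
  rw [h]
  have : (Nat.card E : ℂ) ≠ 0 := Nat.cast_ne_zero.2 Nat.card_pos.ne'
  push_cast
  field_simp

omit hE' hsemi hE hab hfree hmax in
theorem one_le_rank : 1 ≤ Cfsg.blockRank p B :=
  BlockPairing.one_le_blockRank (CfsgLib.Blocks.isPBlock_nonempty hB)

open Classical in
/-- The counts. -/
theorem counts (hA1 : 1 < Nat.card A)
    (hcyc : Nat.Prime (Nat.card A) → Cfsg.blockRank p B = Nat.card E) :
    Nat.card B ≤ Nat.card E + (Nat.card A - 1) / Nat.card E ∧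
      Cfsg.blockRank p B ≤ Nat.card E ∧
      (Nat.card B = Nat.card E + (Nat.card A - 1) / Nat.card E ↔
        Cfsg.blockRank p B = Nat.card E) ∧
      (Nat.card E ≤ 3 → Nat.card B = Nat.card E + (Nat.card A - 1) / Nat.card E ∧
        Cfsg.blockRank p B = Nat.card E) := by
  obtain ⟨R, -, hRc, -, -⟩ := exists_orbit_reps (E := E) hsemi
  set m := R.card
  set e := Nat.card E with he
  have he0 : 0 < e := Nat.card_pos
  have hk := card_eq_rank_add φ hM hB hmax hab hfree hE hE' hsemi hRc
  have hl := one_le_rank (p := p) hM hB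
  obtain ⟨O, _, X, hOm, hrow, hgram, hcong⟩ :=
    exists_gram φ hM hB hmax hab hfree hE hE' hsemi hRc hA1
  have hm0 : 0 < m := Nat.pos_of_ne_zero fun h => by rw [h, zero_mul] at hRc; omega
  haveI : Nonempty O := Fintype.card_pos_iff.1 (hOm ▸ hm0)
  have hle := card_le_of_gram hrow hgram
  rw [← Nat.card_eq_fintype_card, hOm] at hle
  have hdiv : (Nat.card A - 1) / e = m := by
    rw [← hRc, Nat.add_sub_cancel, Nat.mul_div_cancel _ he0]
  rw [hdiv]
  refine ⟨hle, by omega, by omega, fun he3 => ?_⟩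
  suffices h : Cfsg.blockRank p B = e by omega
  by_cases he1 : e = 1
  · omega
  have hι : 2 ≤ Fintype.card B := by rw [← Nat.card_eq_fintype_card]; omega
  obtain ⟨N, hN⟩ := IsPGroup.iff_card.1 (hmax.1.1.2.1.of_equiv φ.symm : IsPGroup p A)
  rcases card_cases_of_gram hrow hgram (e := e) (by omega) hι with h | ⟨h1, h2⟩ | ⟨h1, h2⟩
  · rw [← Nat.card_eq_fintype_card, hOm] at h
    omega
  · rw [hOm] at h1 h2
    refine hcyc ?_
    rcases (show e = 2 ∨ e = 3 by omega) with h | h
    · rw [h] at hRc h2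
      have hm3 : m = 3 := by omega
      rw [← hRc, hm3]
      norm_num
    · rw [h] at hRc h2
      interval_cases m
      · exfalso
        have h10 : p ^ N = 10 := by rw [← hN, ← hRc]
        have hp2 : p ∣ 2 * 5 := by
          rw [show (2 * 5 : ℕ) = p ^ N by rw [h10]]
          refine dvd_pow_self p fun h => ?_
          rw [h, pow_zero] at h10
          omega
        rcases hp.out.dvd_mul.1 hp2 with hd | hd
        · rw [(Nat.prime_dvd_prime_iff_eq hp.out Nat.prime_two).1 hd] at h10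
          have : 2 ^ N % 5 = 0 := by rw [h10]
          have := Nat.Prime.dvd_of_dvd_pow (p := 5) (by norm_num) (Nat.dvd_of_mod_eq_zero this)
          omega
        · rw [(Nat.prime_dvd_prime_iff_eq hp.out (by norm_num)).1 hd] at h10
          have : 5 ^ N % 2 = 0 := by rw [h10]
          have := Nat.Prime.dvd_of_dvd_pow (p := 2) Nat.prime_two (Nat.dvd_of_mod_eq_zero this)
          omega
      · rw [← hRc]
        norm_num
  · rw [hOm] at h1
    refine absurd h2 (hcong ?_)
    have hpA : p ∣ Nat.card A := by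
      rw [hN]
      exact dvd_pow_self p fun h => by rw [hN, h, pow_zero] at hA1; exact lt_irrefl 1 hA1
    rw [← hRc, h1] at hpA
    rw [show Nat.card E = e from rfl]
    refine hp.out.dvd_of_dvd_pow (n := 2) ?_
    rwa [show (e + 1) ^ 2 = (e + 2) * e + 1 by ring]

end CfsgLib.FreeInertia
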