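import Cfsg.Agent.InertialQuotient.MasterSum
import Cfsg.Agent.Star.Height

/-!
# Inner products of stars with abelian defect group

`classInner_star_star` writes the inner product of two stars as a weighted sum over the abelian
group `P` of the contributions; `star_one_eq_zero` kills the members of the other blocks, so that
the coefficients of a star are these sums (`classInner_star`, `sum_star_coef`).
-/

set_option autoImplicit false
set_option linter.unusedSectionVars false
set_option linter.style.haveILetI false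
set_option maxHeartbeats 800000

namespace CfsgLib.FreeInertia

open Cfsg CfsgLib.BlockPairs CfsgLib.Star
open CfsgLib.InertialQuotient (ocard sum_pairs)
open CfsgLib.Blocks (Res)
open scoped ComplexConjugate

universe u

variable {G : Type u} [Group G] [Fintype G] {M : Ideal AlgInt} [M.IsPrime] {p : ℕ}
  [hp : Fact p.Prime] [CharP (Res M) p] [IsAlgClosed (Res M)]
  {B : Set (IrrCharacter G)} {P : Subgroup G} {eP : GA (Res M) G}
  (hM : Cfsg.IsPModular p M) (hB : Cfsg.IsPBlock M B)
  (hmax : IsMaxPair p ⊤ (gblk M B) P eP) (hab : P ≤ Subgroup.centralizer (P : Set G))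

include hM hB hmax

/-- The star by one kills the members of other blocks. -/
theorem star_one_eq_zero {η : IrrCharacter G} (hη : η ∉ B) :
    star p P eP (1 : G → ℂ) (η : G → ℂ) = 0 := by
  classical
  funext g
  rw [star_apply, Pi.zero_apply]
  refine Finset.sum_eq_zero fun e he => ?_
  by_cases h : ∃ x, Le p ⊤ (cj x (Subgroup.zpowers (pPart p g))) (conjA (Res M) x e) P eP
  swap
  · push Not at h
    rw [zt_eq_zero h, zero_mul]
  obtain ⟨x, hx⟩ := h
  refine mul_eq_zero_of_right _ ?_
  set B' := Cfsg.blockOf M (η : G → ℂ)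
  have hB' : Cfsg.IsPBlock M B' := ⟨η, rfl⟩
  have hne : B' ≠ B := fun h => hη (h ▸ CfsgLib.Blocks.mem_blockOf_self η)
  have hb := isBlock_gblk (M := M) hB
  have hpair : IsPair p ⊤ (Subgroup.zpowers (pPart p g)) e :=
    ⟨le_top, isPGroup_zpowers_pPart g, mem_blocks.1 he⟩
  have h1 := (blockHas_iff_of_le hb hx (hpair.conjA trivial)).2 hmax.1
  have h2 := h1.conjA hb.fixed (x := x⁻¹) trivial
  rw [cj_inv_cj, conjA_inv] at h2
  have hwp := isPGroup_zpowers_pPart (p := p) g
  refine T_eq_zero_of_not_under hM hB' (CfsgLib.Blocks.mem_blockOf_self η) he ?_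
  have h3 : gblk M B' * gblk M B = 0 :=
    ((isBlock_gblk hB').eq_or_mul_eq_zero hb).resolve_left fun h => hne (gblk_inj hB' hB h)
  rw [← h2.2, ← mul_assoc, ← br_mul hwp ((isBlock_gblk hB').fixed.mono le_top)
    (hb.fixed.mono le_top), h3, br_zero, zero_mul]

include hab

/-- The contributions are invariant under the stabilizer. -/
theorem cval_stab {t w : G} (ht : t ∈ stab ⊤ P eP) (hw : w ∈ P) {χ ψ : G → ℂ}
    (hχ : Cfsg.IsClassFunction G χ) (hψ : Cfsg.IsClassFunction G ψ) :
    cval p P eP χ ψ (t * w * t⁻¹) = cval p P eP χ ψ w := by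
  have hbel : below p P eP (Subgroup.zpowers (t * w * t⁻¹)) =
      conjA (Res M) t (below p P eP (Subgroup.zpowers w)) := by
    refine below_eq hmax ?_
    have h := (le_below hmax hw).conjA (x := t) (Subgroup.mem_top _)
    rwa [Star.cj_zpowers, cj_eq_self (stab_le_normalizer ht), (mem_stab.1 ht).2] at h
  have htw : t * w * t⁻¹ ∈ P := (Subgroup.mem_normalizer_iff.1 (stab_le_normalizer ht) w).1 hw
  have hinf : ∀ v ∈ P, P ⊓ cent ⊤ (Subgroup.zpowers v) = P := fun v hv => inf_eq_left.2 (by
    rw [cent_top]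
    exact InertialQuotient.le_centralizer_of_le hab (Subgroup.zpowers_le.2 hv))
  rw [cval, cval, hbel, nsum_conj hχ hψ t w (mem_blocks.1 (below_mem_blocks hmax hw)), wt, wt,
    hinf _ htw, hinf _ hw, ← Star.cj_zpowers, ← cj_cent_top, card_cj]

open Classical in
/-- The inner product of two stars. -/
theorem classInner_star_star {ζ ζ' : G → ℂ} (hζ : IsInvariant p P eP ζ)
    (hζ' : IsInvariant p P eP ζ') {χ ψ : G → ℂ} (hχ : Cfsg.IsClassFunction G χ)
    (hψ : Cfsg.IsClassFunction G ψ) :
    Cfsg.classInner (star p P eP ζ χ) (star p P eP ζ' ψ) =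
      (Nat.card P : ℂ)⁻¹ * ∑ w : P, ζ (w : G) * conj (ζ' (w : G)) *
        cval p P eP χ ψ (w : G) / (ocard (stab ⊤ P eP) (w : G) : ℂ) := by
  let F : G → GA (Res M) G → ℂ := fun x e =>
    zt p P eP ζ x e * conj (zt p P eP ζ' x e) * nsum p χ ψ (cent ⊤ (Subgroup.zpowers x)) x e
  have hL : Cfsg.classInner (star p P eP ζ χ) (star p P eP ζ' ψ) =
      (Nat.card G : ℂ)⁻¹ * ∑ x ∈ Finset.univ.filter (fun x : G => ∃ k, orderOf x = p ^ k),
        ∑ e ∈ blocks (Res M) (cent ⊤ (Subgroup.zpowers x)), F x e := by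
    simp only [Cfsg.classInner]
    congr 1
    rw [Finset.sum_filter]
    refine (sum_eq_sum_sections' (p := p) _).trans (Finset.sum_congr rfl fun x _ => ?_)
    split_ifs with hx
    · rw [sum_section_star hM hx hχ hψ, Star.cent_zpowers]
      exact Finset.sum_congr rfl fun e _ => by simp only [F]; rw [Star.cent_zpowers, nsum_eq_sum]
    · rfl
  rw [hL, sum_pairs hB hmax hab F ?_ ?_, ← mul_assoc,
    inv_mul_cancel₀ (Nat.cast_ne_zero.2 Nat.card_pos.ne'), one_mul, Finset.mul_sum]
  · refine Finset.sum_congr rfl fun w _ => ?_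
    have hinf : P ⊓ cent ⊤ (Subgroup.zpowers (w : G)) = P := inf_eq_left.2 (by
      rw [cent_top]
      exact InertialQuotient.le_centralizer_of_le hab (Subgroup.zpowers_le.2 w.2))
    have hle := le_below hmax w.2
    simp only [F]
    rw [zt_eq hζ (x := 1) (by rwa [conjA_one_left, cj_one]),
      zt_eq hζ' (x := 1) (by rwa [conjA_one_left, cj_one]), cval, wt, hinf]
    have hP : (Nat.card P : ℂ) ≠ 0 := Nat.cast_ne_zero.2 Nat.card_pos.ne'
    simp only [one_mul, inv_one, mul_one]
    field_simp
  · intro g w e he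
    simp only [F]
    rw [zt_conj hζ, zt_conj hζ', nsum_conj hχ hψ g w he]
  · intro x e h
    simp only [F]
    rw [zt_eq_zero h, zero_mul, zero_mul]

open Classical in
/-- The coefficients of a star at the members of the block. -/
theorem classInner_star {ζ : G → ℂ} (hζ : IsInvariant p P eP ζ) {χ : G → ℂ}
    (hχ : Cfsg.IsClassFunction G χ) {η : IrrCharacter G} (hη : η ∈ B) :
    Cfsg.classInner (star p P eP ζ χ) (η : G → ℂ) =
      (Nat.card P : ℂ)⁻¹ * ∑ w : P, ζ (w : G) *
        cval p P eP χ (η : G → ℂ) (w : G) / (ocard (stab ⊤ P eP) (w : G) : ℂ) := by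
  conv_lhs => arg 2; rw [← star_of_eq_one hM hB hmax (ζ := (1 : G → ℂ)) (fun _ _ => rfl)
    isInvariant_one hη]
  rw [classInner_star_star hM hB hmax hab hζ isInvariant_one hχ
    (Characters.isClassFunction_of_isIrr η.2)]
  simp only [Pi.one_apply, map_one, mul_one]

omit hB hmax hab hM in
theorem star_linear (ζ : G → ℂ) {ι : Type*} (s : Finset ι) (c : ι → ℂ) (f : ι → G → ℂ) (g : G) :
    star p P eP ζ (fun x => ∑ i ∈ s, c i * f i x) g = ∑ i ∈ s, c i * star p P eP ζ (f i) g := by
  classical
  have hT : ∀ e : GA (Res M) G,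
      T M (fun x => ∑ i ∈ s, c i * f i x) g e = ∑ i ∈ s, c i * T M (f i) g e := by
    intro e
    simp only [T]
    split_ifs
    · simp only [tau_apply, Finset.mul_sum]
      rw [Finset.sum_comm]
      exact Finset.sum_congr rfl fun i _ => Finset.sum_congr rfl fun x _ => by ring
    · simp
  simp only [star_apply, hT, Finset.mul_sum]
  rw [Finset.sum_comm]
  exact Finset.sum_congr rfl fun i _ => Finset.sum_congr rfl fun e _ => by ring

open Classical in
/-- A star is the combination of the members of the block with its coefficients. -/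
theorem star_eq_sum {ζ : G → ℂ} (hζ : IsInvariant p P eP ζ) {χ : G → ℂ}
    (hχ : Cfsg.IsClassFunction G χ) (g : G) :
    star p P eP ζ χ g =
      ∑ η ∈ B.toFinset, Cfsg.classInner (star p P eP ζ χ) (η : G → ℂ) * (η : G → ℂ) g := by
  set f := star p P eP ζ χ with hf
  have hexp : f = fun x => ∑ η : IrrCharacter G, Cfsg.classInner f (η : G → ℂ) * (η : G → ℂ) x := by
    funext x
    have h := congrFun (Characters.classFunction_expansion (isClassFunction_star hM hζ hχ)) x
    simpa [Finset.sum_apply] using h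
  have h1 : star p P eP (1 : G → ℂ) f = f := by rw [hf, star_star hM hζ hχ, one_mul]
  rw [← congrFun h1 g]
  conv_lhs => rw [show star p P eP (1 : G → ℂ) f = star p P eP (1 : G → ℂ)
    (fun x => ∑ η : IrrCharacter G, Cfsg.classInner f (η : G → ℂ) * (η : G → ℂ) x) from
      congrArg _ hexp]
  rw [star_linear]
  refine (Finset.sum_subset (Finset.subset_univ B.toFinset) fun η _ hη => ?_).symm.trans
    (Finset.sum_congr rfl fun η hη => ?_)
  · rw [star_one_eq_zero hM hB hmax fun h => hη (Set.mem_toFinset.2 h), Pi.zero_apply, mul_zero]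
  · rw [star_of_eq_one hM hB hmax (ζ := (1 : G → ℂ)) (fun _ _ => rfl) isInvariant_one
      (Set.mem_toFinset.1 hη)]

open Classical in
/-- The products of the coefficients of two stars add up to their inner product. -/
theorem sum_star_coef {ζ ζ' : G → ℂ} (hζ' : IsInvariant p P eP ζ') {χ ψ : G → ℂ}
    (hψ : Cfsg.IsClassFunction G ψ) :
    ∑ η ∈ B.toFinset, Cfsg.classInner (star p P eP ζ χ) (η : G → ℂ) *
        conj (Cfsg.classInner (star p P eP ζ' ψ) (η : G → ℂ)) =
      Cfsg.classInner (star p P eP ζ χ) (star p P eP ζ' ψ) := by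
  conv_rhs => rw [Cfsg.classInner, Finset.sum_congr rfl fun g _ => by
    rw [star_eq_sum hM hB hmax hab hζ' hψ g, map_sum, Finset.mul_sum]]
  rw [Finset.sum_comm, Finset.mul_sum]
  refine Finset.sum_congr rfl fun η _ => ?_
  simp only [map_mul]
  rw [Cfsg.classInner, Finset.mul_sum, Finset.mul_sum, Finset.sum_mul]
  exact Finset.sum_congr rfl fun g _ => by ring

end CfsgLib.FreeInertia
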