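import Cfsg.Agent.InertialQuotient.MasterSum
import Cfsg.Agent.InertialQuotient.NilpotentRank
import Cfsg.Agent.Star.Nilpotent
import Cfsg.Agent.Star.Height
import Cfsg.Agent.BlocksLocal.OverLocalRing
import Cfsg.Agent.Characters.Orthogonality
import Cfsg.Agent.BlocksFrobenius.Dual

/-!
# A subsection with nilpotent block and abelian defect group

For `w` in the abelian group `P` of a maximal pair such that the block below at `w` is nilpotent
(`NilpBelow`) the subsection factors through one function: `cval χ η w = d χ * conj (d η)`, and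
the trace at `w` of an idempotent lying below is a natural multiple of `d` (`exists_local_data`).
-/

set_option autoImplicit false
set_option linter.unusedSectionVars false
set_option linter.style.haveILetI false
set_option maxHeartbeats 800000

namespace CfsgLib.FreeInertia

open Cfsg CfsgLib.BlockPairs CfsgLib.Star
open CfsgLib.Blocks (localRing Res setIdemO extRing memLocalRing_blockCoeff
  isBlockUnion_of_isPBlock)
open CfsgLib.BlockPairing (regInner)
open scoped ComplexConjugate

universe u

variable {G : Type u} [Group G] [Fintype G] {M : Ideal AlgInt} [M.IsPrime] {p : ℕ}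
  [hp : Fact p.Prime]

/-- The indicator of the identity. -/
noncomputable def delta (G : Type*) [One G] : G → ℂ := open Classical in fun g => if g = 1 then 1 else 0

theorem isClassFunction_delta (G : Type*) [Group G] :
    Cfsg.IsClassFunction G (delta G) := fun g h => by
  classical
  simp only [delta, conj_eq_one_iff]

theorem tau_delta (a : MonoidAlgebra (localRing M) G) :
    tau M (delta G) a = (a.coeff 1 : ℂ) := by
  classical
  simp [tau_apply, delta]

/-- The trace at one of an idempotent on the indicator of the identity. -/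
theorem T_delta {j : GA (Res M) G} {E : MonoidAlgebra (localRing M) G} (hE : E * E = E)
    (hj : rho M G E = j) : T M (delta G) 1 j = (E.coeff 1 : ℂ) := by
  rw [T_eq (isClassFunction_delta G) hE
    ⟨by rw [← MonoidAlgebra.one_def]; exact Commute.one_left _, hj⟩, ← MonoidAlgebra.one_def,
    one_mul, tau_delta]

theorem rho_extRing (H : Subgroup G) (E : MonoidAlgebra (localRing M) H) :
    rho M G (extRing H E) = emb H.subtype (rho M H E) :=
  CfsgLib.Blocks.map_extRing _ _ _

/-- It does not depend on the group. -/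
theorem T_delta_emb (H : Subgroup G) [Fintype H] {j : GA (Res M) H} (hj : j * j = j) :
    T M (delta G) 1 (emb H.subtype j) = T M (delta H) 1 j := by
  obtain ⟨E, hE, hEz⟩ := exists_lift (M := M) j hj
  have hr := (hEz 1 (conjA_one_left j)).2
  rw [T_delta (E := extRing H E) (by rw [← map_mul, hE]) (by rw [rho_extRing, hr]),
    T_delta hE hr]
  congr 1
  exact CfsgLib.Blocks.coeff_extRing_coe H E 1

/-- The trace of an idempotent is a natural number. -/
theorem exists_natCast_tau {χ : G → ℂ} (hχ : Cfsg.IsCharacter G χ)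
    {E : MonoidAlgebra (localRing M) G} (hE : E * E = E) : ∃ m : ℕ, tau M χ E = m := by
  obtain ⟨n, ρ, rfl⟩ := hχ
  set φ := (ρ.asAlgebraHom.toRingHom.comp (MonoidAlgebra.mapRingHom G (localRing M).subtype))
  have hφ : tau M ρ.character E = LinearMap.trace ℂ _ (φ E) := by
    show _ = LinearMap.trace ℂ _ (ρ.asAlgebraHom (MonoidAlgebra.mapRingHom G (localRing M).subtype E))
    rw [CfsgLib.Blocks.trace_asAlgebraHom]
    rfl
  have hP : φ E * φ E = φ E := by rw [← map_mul, hE]
  have hproj : LinearMap.IsProj (LinearMap.range (φ E)) (φ E) :=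
    ⟨fun x => LinearMap.mem_range_self _ x, fun x ⟨y, hy⟩ => by
      rw [← hy, ← Module.End.mul_apply, hP]⟩
  exact ⟨Module.finrank ℂ (LinearMap.range (φ E)), by rw [hφ, hproj.trace]⟩

/-- The sum of the degrees times the traces of an idempotent. -/
theorem sum_degree_tau (E : MonoidAlgebra (localRing M) G) :
    ∑ χ : IrrCharacter G, (χ : G → ℂ) 1 * tau M (χ : G → ℂ) E =
      (Nat.card G : ℂ) * (E.coeff 1 : ℂ) := by
  classical
  simp only [tau_apply, Finset.mul_sum]
  rw [Finset.sum_comm, Finset.sum_eq_single (1 : G)]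
  · simp only [mul_left_comm _ ((E.coeff 1 : ℂ)), ← Finset.mul_sum,
      Characters.sum_degree_mul (1 : G), if_pos]
    ring
  · intro g _ hg
    simp only [mul_left_comm _ ((E.coeff g : ℂ)), ← Finset.mul_sum, Characters.sum_degree_mul g,
      if_neg hg, mul_zero]
  · simp

variable (M) in
/-- The block below at `w` is nilpotent. -/
def NilpBelow (p : ℕ) [Fact p.Prime] (P : Subgroup G) (eP : GA (Res M) G) (w : G) : Prop :=
  Nilp p (Subgroup.centralizer ((Subgroup.zpowers w : Subgroup G) : Set G))
    (below p P eP (Subgroup.zpowers w))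

variable [CharP (Res M) p] [IsAlgClosed (Res M)] (hM : Cfsg.IsPModular p M)
  {B : Set (IrrCharacter G)} (hB : Cfsg.IsPBlock M B) {P : Subgroup G}

include hM hB

/-- The members of a nilpotent block with abelian defect group. -/
theorem nilp_members (hPD : Cfsg.IsDefectGroup p M B P)
    (hab : P ≤ Subgroup.centralizer (P : Set G)) (hn : Nilp p ⊤ (gblk M B)) :
    ∃ χ₀ ∈ B, Cfsg.blockHeight p B (χ₀ : G → ℂ) = 0 ∧
      (∀ χ ∈ B, ∀ g, ¬ p ∣ orderOf g → (χ : G → ℂ) g = (χ₀ : G → ℂ) g) ∧
      (Nat.card P : ℂ) * regInner p (χ₀ : G → ℂ) (χ₀ : G → ℂ) = 1 ∧ Nat.card B = Nat.card P := by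
  classical
  have hd := (isDefectGroup_gblk_iff hB P).1 hPD
  obtain ⟨e, he⟩ := exists_blockHas (isBlock_gblk (M := M) hB) le_top hd.2.1 hd.2.2.1
  have hmax := isMaxPair_of_defect hd he
  obtain ⟨χ₀, hχ₀, hmin, -⟩ := BlockPairing.exists_minimal (p := p) hB
  have h0 : Cfsg.blockHeight p B (χ₀ : G → ℂ) = 0 := by
    rw [Cfsg.blockHeight, Nat.sub_eq_zero_iff_le]
    refine le_csInf (Set.image_nonempty.2 ⟨χ₀, hχ₀⟩) ?_
    rintro _ ⟨η, hη, rfl⟩
    exact hmin η hη
  obtain ⟨Ψ, hinj, hmem, hreg⟩ := Star.exists_param hM hB hmax hn hχ₀ h0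
  letI : CommGroup P :=
    { (inferInstance : Group P) with
      mul_comm := fun a b => Subtype.ext (Subgroup.mem_centralizer_iff.1 (hab b.2) a a.2) }
  have hlin : ∀ θ : IrrCharacter P, (θ : P → ℂ) 1 = 1 := by
    choose m hm0 hm using fun θ : IrrCharacter P => Characters.exists_degree_pos θ.2
    have hsum : (∑ θ, m θ ^ 2 : ℕ) = Nat.card P := by
      apply Nat.cast_injective (R := ℂ)
      push_cast
      simp only [← hm]
      exact Characters.sum_degree_sq (G := P)
    have hge : Nat.card P ≤ Fintype.card (IrrCharacter P) := by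
      rw [← BlocksFrobenius.card_dual (A := P), ← Nat.card_eq_fintype_card]
      refine Nat.card_le_card_of_injective (fun l => ⟨_, Characters.isIrr_linChar l⟩) fun l l' h =>
        MonoidHom.ext fun x => Units.ext (congrFun (congrArg Subtype.val h) x)
    have hle : ∀ θ ∈ (Finset.univ : Finset (IrrCharacter P)), 1 ≤ m θ ^ 2 := fun θ _ =>
      Nat.one_le_pow _ _ (hm0 θ)
    have heq : ∑ θ : IrrCharacter P, 1 = ∑ θ, m θ ^ 2 := by
      refine le_antisymm (Finset.sum_le_sum hle) ?_
      rw [hsum, Finset.sum_const, Finset.card_univ, smul_eq_mul, mul_one]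
      exact hge
    intro θ
    have h := (Finset.sum_eq_sum_iff_of_le hle).1 heq θ (Finset.mem_univ θ)
    rw [hm, (Nat.pow_eq_one.1 h.symm).resolve_right (by norm_num), Nat.cast_one]
  refine ⟨χ₀, hχ₀, h0, fun χ hχ g hg => ?_, ?_, ?_⟩
  · obtain ⟨θ, rfl⟩ := (hmem χ).1 hχ
    rw [hreg θ g hg, hlin, one_mul]
  · have h := Contributions.cast_contrib (p := p) hχ₀ χ₀
    rw [contrib_self hM hB hmax hn hχ₀ h0, Int.cast_one,
      ← CfsgLib.Blocks.card_defectGroup hM hB hPD] at h
    exact h.symm
  · have h1 := Characters.sum_degree_sq (G := P)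
    simp only [hlin, one_pow, Finset.sum_const, Finset.card_univ, nsmul_eq_mul, mul_one,
      Nat.cast_inj] at h1
    rw [← Nat.card_congr (Equiv.ofBijective (fun θ => (⟨Ψ θ, (hmem _).2 ⟨θ, rfl⟩⟩ : B))
      ⟨fun a b h => hinj (congrArg Subtype.val h), fun b => by
        obtain ⟨θ, hθ⟩ := (hmem _).1 b.2
        exact ⟨θ, Subtype.ext hθ⟩⟩), Nat.card_eq_fintype_card]
    exact h1

variable {eP : GA (Res M) G} (hmax : IsMaxPair p ⊤ (gblk M B) P eP)
  (hab : P ≤ Subgroup.centralizer (P : Set G))

include hmax hab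

/-- The contributions vanish outside the block. -/
theorem cval_eq_zero_of_not_mem {w : G} (hw : w ∈ P) {χ : G → ℂ} {η : IrrCharacter G}
    (hη : η ∉ B) : cval p P eP χ (η : G → ℂ) w = 0 := by
  classical
  obtain ⟨hk, f, hf, -, hle⟩ := by
    haveI := Fintype.ofFinite ↥(Subgroup.centralizer ({w} : Set G))
    exact exists_sub hM hB hmax hw
  set B' := Cfsg.blockOf M (η : G → ℂ)
  have hB' : Cfsg.IsPBlock M B' := ⟨η, rfl⟩
  have hne : B' ≠ B := fun h => hη (h ▸ CfsgLib.Blocks.mem_blockOf_self η)
  have he := below_mem_blocks hmax hw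
  set e := below p P eP (Subgroup.zpowers w)
  have hwp : IsPGroup p (Subgroup.zpowers w) :=
    hmax.1.1.2.1.to_le (Subgroup.zpowers_le.2 hw)
  have hh := (blockHas_iff_of_le (isBlock_gblk hB) (le_below hmax hw)
    (le_pair hmax.1.1 (le_below hmax hw))).2 hmax.1
  have hzero : br (Subgroup.zpowers w) (gblk M B') * e = 0 := by
    have h1 : gblk M B' * gblk M B = 0 :=
      ((isBlock_gblk hB').eq_or_mul_eq_zero (isBlock_gblk hB)).resolve_left
        fun h => hne (gblk_inj hB' hB h)
    rw [show e = below p P eP (Subgroup.zpowers w) from rfl, ← hh.2, ← mul_assoc, ← br_mul hwp ((isBlock_gblk hB').fixed.mono le_top)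
      ((isBlock_gblk hB).fixed.mono le_top), h1, br_zero, zero_mul]
  rw [cval, nsum]
  refine mul_eq_zero_of_right _ (Finset.sum_eq_zero fun s hs => ?_)
  obtain ⟨hsC, hsr⟩ := (Finset.mem_filter.1 hs).2
  rw [cent_zpowers] at hsC
  have hpp : pPart p (w * s) = w :=
    pPart_mul_regular hk (s := ⟨s, hsC⟩) (by rwa [Subgroup.orderOf_mk])
  rw [T_eq_zero_of_not_under hM hB' (CfsgLib.Blocks.mem_blockOf_self η) (z := w * s) (e := e)
    (by rw [hpp]; exact he) (by rw [hpp]; exact hzero), map_zero, mul_zero]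

open Classical in
/-- The data of a subsection with nilpotent block. -/
theorem exists_local_data {w : G} (hw : w ∈ P) (hn : NilpBelow M p P eP w) :
    ∃ (n : ℕ) (d : IrrCharacter G → ℂ), n ≠ 0 ∧ (∀ χ, IsIntegral ℤ (d χ)) ∧
      (∀ χ η : IrrCharacter G, cval p P eP (χ : G → ℂ) (η : G → ℂ) w = d χ * conj (d η)) ∧
      (∀ χ : IrrCharacter G,
        T M (χ : G → ℂ) w (below p P eP (Subgroup.zpowers w)) = d χ * n) ∧
      (Nat.card ↥(Subgroup.centralizer ((Subgroup.zpowers w : Subgroup G) : Set G)) : ℂ) *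
          T M (delta G) 1 (below p P eP (Subgroup.zpowers w)) = (Nat.card P : ℂ) * n ^ 2 ∧
      ∀ i : GA (Res M) G, i * i = i → conjA (Res M) w i = i →
        br (Subgroup.zpowers w) i * below p P eP (Subgroup.zpowers w) =
          br (Subgroup.zpowers w) i →
        ∃ μ : ℕ, (∀ χ : IrrCharacter G, T M (χ : G → ℂ) w i = d χ * μ) ∧
          (Nat.card ↥(Subgroup.centralizer ((Subgroup.zpowers w : Subgroup G) : Set G)) : ℂ) *
              T M (delta G) 1 (br (Subgroup.zpowers w) i) = (Nat.card P : ℂ) * n * μ := by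
  set K := Subgroup.centralizer ({w} : Set G) with hKdef
  haveI := Fintype.ofFinite K
  obtain ⟨hk, f, hf, -, hle⟩ := exists_sub hM hB hmax hw
  have hC : Subgroup.centralizer ((Subgroup.zpowers w : Subgroup G) : Set G) = K :=
    InertialQuotient.centralizer_zpowers w
  have hbel : below p P eP (Subgroup.zpowers w) = sblk M K f := below_eq hmax hle
  have hPK : P ≤ K :=
    hC ▸ InertialQuotient.le_centralizer_of_le hab (Subgroup.zpowers_le.2 hw)
  have hm := InertialQuotient.maxPair_below hB hmax hab (Subgroup.zpowers_le.2 hw)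
  rw [hC, hbel] at hm
  have hfD : Cfsg.IsDefectGroup p M f (P.subgroupOf K) :=
    (isDefectGroup_subgroupOf_iff hf hPK).2 (hm.isDefectGrp (isBlock_sblk hf)).1
  have hnf : Nilp p ⊤ (gblk M f) := by
    refine (isNilpotentBlock_gblk_iff hf).1 ((isNilpotentBlock_sblk_iff hf).2 ?_)
    have h := hn
    rw [NilpBelow, hbel, show Nilp p (Subgroup.centralizer
      ((Subgroup.zpowers w : Subgroup G) : Set G)) = Nilp p K by rw [hC]] at h
    exact h
  have hab' : P.subgroupOf K ≤ Subgroup.centralizer ((P.subgroupOf K : Subgroup K) : Set K) :=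
    fun a ha => Subgroup.mem_centralizer_iff.2 fun c hc =>
      Subtype.ext (Subgroup.mem_centralizer_iff.1 (hab ha) c hc)
  obtain ⟨ξ₀, hξ₀, -, hreg, hone, hcard⟩ := nilp_members hM hf hfD hab' hnf
  have hPc : Nat.card (P.subgroupOf K) = Nat.card P :=
    Nat.card_congr (Subgroup.subgroupOfEquivOfLe hPK).toEquiv
  rw [hPc] at hone hcard
  obtain ⟨n, hn0, hdeg⟩ := Characters.exists_degree_pos ξ₀.2
  have hfu := isBlockUnion_of_isPBlock hf
  let d : IrrCharacter G → ℂ := fun χ =>
    ∑ ξ ∈ f.toFinset, BlocksCharsC.secCoef w (χ : G → ℂ) ξ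
  have hint : ∀ χ, IsIntegral ℤ (d χ) := fun χ => IsIntegral.sum _ fun ξ _ => by
    rw [BlocksCharsC.secCoef_eq]
    obtain ⟨k, hk⟩ := hk
    refine IsIntegral.mul ?_ (IsIntegral.of_pow (pow_pos hp.out.pos k)
      (by rw [BlocksCharsC.secRoot_pow hk]; exact isIntegral_one))
    obtain ⟨m, hm⟩ := Characters.classInner_character_irr
      (Characters.isCharacter_restrict K (Characters.isCharacter_of_isIrr χ.2)) ξ.2
    rw [hm]
    exact isIntegral_natCast m
  -- the values on the regular elements of the centralizer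
  have hval : ∀ (χ : IrrCharacter G) (s : K), ¬ p ∣ orderOf s →
      BlocksCharsC.secVal w f (χ : G → ℂ) s = d χ * (ξ₀ : K → ℂ) s := fun χ s hs => by
    rw [BlocksCharsC.secVal, Finset.sum_mul]
    exact Finset.sum_congr rfl fun ξ hξ => by rw [hreg ξ (Set.mem_toFinset.1 hξ) s hs]
  have hcardd : Nat.card ↥(P ⊓ cent ⊤ (Subgroup.zpowers w)) = p ^ Cfsg.blockDefect p f := by
    rw [Star.cent_zpowers, inf_eq_left.2 hPK, ← hPc, CfsgLib.Blocks.card_defectGroup hM hf hfD]
  have hcv : ∀ χ η : IrrCharacter G,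
      cval p P eP (χ : G → ℂ) (η : G → ℂ) w = d χ * conj (d η) := fun χ η => by
    rw [cval_eq_subContrib hM hB hmax hf hle hcardd (Characters.isClassFunction_of_isIrr χ.2)
      (Characters.isClassFunction_of_isIrr η.2), BlocksCharsC.subContrib, BlocksCharsC.secInner,
      BlocksCharsC.regInner_congr_left (φ' := fun s => d χ * (ξ₀ : K → ℂ) s) _ (hval χ),
      BlocksCharsC.regInner_congr_right (ψ' := fun s => d η * (ξ₀ : K → ℂ) s) _ (hval η),
      ← CfsgLib.Blocks.card_defectGroup hM hf hfD, hPc]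
    have h : regInner p (fun s => d χ * (ξ₀ : K → ℂ) s) (fun s => d η * (ξ₀ : K → ℂ) s) =
        d χ * conj (d η) * regInner p (ξ₀ : K → ℂ) ξ₀ := by
      simp only [regInner, Finset.mul_sum]
      refine Finset.sum_congr rfl fun s _ => ?_
      split_ifs
      · simp
      · rw [map_mul]; ring
    rw [h, mul_left_comm, hone, mul_one]
  have h1reg : ¬ p ∣ orderOf (1 : K) := by rw [orderOf_one]; exact hp.out.not_dvd_one
  have hTe : ∀ χ : IrrCharacter G, T M (χ : G → ℂ) w (sblk M K f) = d χ * n := fun χ => by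
    have h := T_sblk hM hfu (Characters.isClassFunction_of_isIrr χ.2) (1 : K)
    rw [OneMemClass.coe_one, mul_one] at h
    rw [h, ← hdeg, ← hval χ 1 h1reg, BlocksCharsC.secVal, Cfsg.blockPart,
      CfsgLib.Blocks.finsum_irr_mem,
      show Fintype.ofFinite K = ‹Fintype K› from Subsingleton.elim _ _, ← Finset.sum_filter]
    exact Finset.sum_congr (by ext; simp) fun ξ _ => rfl
  -- the lifts inside the centralizer
  set F : MonoidAlgebra (localRing M) K :=
    (setIdemO M f (memLocalRing_blockCoeff hfu) : MonoidAlgebra (localRing M) K) with hF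
  have hFF : F * F = F := by
    rw [hF, ← Subring.coe_mul]
    congr 1
    exact CfsgLib.Blocks.ctr_ext_omegaO fun ψ => by
      rw [map_mul, CfsgLib.Blocks.omegaO_setIdemO]; split_ifs <;> simp
  have hkey : ∀ E : MonoidAlgebra (localRing M) K, E * E = E →
      (∀ ξ : IrrCharacter K, tau M (ξ : K → ℂ) (F * E) =
        if ξ ∈ f then tau M (ξ₀ : K → ℂ) E else 0) ∧
      (Nat.card K : ℂ) * ((F * E).coeff 1 : ℂ) = (Nat.card P : ℂ) * n * tau M (ξ₀ : K → ℂ) E := by
    intro E hE
    have h1 : ∀ ξ : IrrCharacter K, tau M (ξ : K → ℂ) (F * E) =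
        if ξ ∈ f then tau M (ξ₀ : K → ℂ) E else 0 := fun ξ => by
      rw [hF, tau_mul_setIdemO ξ hfu]
      split_ifs with hξ
      · rw [← sub_eq_zero, tau_apply, tau_apply, ← Finset.sum_sub_distrib]
        simp only [← mul_sub]
        refine CfsgLib.BlocksLocal.sum_coeff_mul_eq_zero_of_idempotent hM E hE _
          (fun g h => ?_) fun g hg => by rw [hreg ξ hξ g hg, sub_self]
        simp only [Characters.isClassFunction_of_isIrr ξ.2 g h,
          Characters.isClassFunction_of_isIrr ξ₀.2 g h]
      · rfl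
    refine ⟨h1, ?_⟩
    rw [← sum_degree_tau]
    simp only [h1, mul_ite, mul_zero]
    rw [← Finset.sum_filter, Finset.sum_congr rfl (g := fun _ => (n : ℂ) * tau M (ξ₀ : K → ℂ) E)
      (fun ξ hξ => by rw [hreg ξ (Finset.mem_filter.1 hξ).2 1 h1reg, hdeg]),
      Finset.sum_const, nsmul_eq_mul, ← mul_assoc, ← hcard, Nat.card_eq_fintype_card,
      Fintype.card_subtype]
  refine ⟨n, d, hn0.ne', hint, hcv, fun χ => by rw [hbel]; exact hTe χ, ?_, fun i hi hwi hie => ?_⟩
  · obtain ⟨-, h⟩ := hkey 1 (one_mul 1)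
    rw [mul_one] at h
    rw [hC, hbel, ← InertialQuotient.emb_gblk, T_delta_emb K (isBlock_gblk hf).idem,
      T_delta hFF (by rw [hF, gblk_eq hfu]), h, show tau M (ξ₀ : K → ℂ) 1 = n by
        rw [tau_apply, Finset.sum_eq_single (1 : K)] <;> simp_all [MonoidAlgebra.one_def],
      mul_assoc, sq]
  set j := br (Subgroup.zpowers w) i with hj
  have hwp : IsPGroup p (Subgroup.zpowers w) := isPGroup_zpowers hk
  have hifix : IsFixed (Subgroup.zpowers w) i := isFixed_zpowers hwi
  have hjj : j * j = j := br_idem hwp hifix hi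
  have hjK : IsSupp K j := fun g hg => by
    have := isSupp_br (Subgroup.zpowers w) i g hg
    rwa [hC] at this
  have hjw : conjA (Res M) w j = j :=
    isFixed_br (Subgroup.le_normalizer) hifix w (Subgroup.mem_zpowers w)
  obtain ⟨j', hj'⟩ := exists_emb_of_isSupp (φ := K.subtype) K.subtype_injective (z := j)
    (hjK.mono (by rw [K.range_subtype]))
  have hj'j : j' * j' = j' := emb_injective (φ := K.subtype) K.subtype_injective
    (by rw [map_mul, hj', hjj])
  obtain ⟨E, hE, hEz⟩ := exists_lift (M := M) j' hj'j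
  have hrE := (hEz 1 (conjA_one_left j')).2
  obtain ⟨μ, hμ⟩ := exists_natCast_tau (M := M) (Characters.isCharacter_of_isIrr ξ₀.2) hE
  have hFc : ∀ a, Commute a F := fun a =>
    Subring.mem_center_iff.1 (setIdemO M f (memLocalRing_blockCoeff hfu)).2 a
  have hFE : F * E * (F * E) = F * E := by
    rw [(hFc E).mul_mul_mul_comm, hFF, hE]
  have hrFE : rho M K (F * E) = j' := by
    refine emb_injective (φ := K.subtype) K.subtype_injective ?_
    rw [map_mul, hrE, hF, gblk_eq hfu, map_mul, hj', InertialQuotient.emb_gblk, ← hbel]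
    have hcomm : Commute (below p P eP (Subgroup.zpowers w)) j :=
      mul_comm_of_fixed_supp (P := cent ⊤ (Subgroup.zpowers w))
        (mem_blocks.1 (below_mem_blocks hmax hw)).fixed
        ((isSupp_br _ i).mono (le_inf le_top le_rfl))
    rw [hcomm.eq, hie]
  obtain ⟨h1, h2⟩ := hkey E hE
  refine ⟨μ, fun χ => ?_, ?_⟩
  · have hTj : T M (χ : G → ℂ) w i = T M (χ : G → ℂ) w j := by
      have hpp : Cfsg.IsPPart p w w :=
        ⟨1, mul_one w, Commute.one_right w, hk, by rw [orderOf_one]; exact hp.out.not_dvd_one⟩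
      exact T_eq_of_br_eq (Characters.isClassFunction_of_isIrr χ.2) hM hpp hi hjj hwi hjw
        (by rw [hj, br_br_of_le le_rfl])
    have hwK : w ∈ K := Subgroup.mem_centralizer_singleton_iff.2 rfl
    have hab2 : Above M w (extRing K (F * E)) j := by
      refine ⟨?_, by rw [rho_extRing, hrFE, hj']⟩
      rw [← CfsgLib.Blocks.extRing_single K ⟨w, hwK⟩ (1 : localRing M)]
      refine Commute.map ?_ _
      rw [show (⟨w, hwK⟩ : K) = BlocksCharsC.selfCent w from rfl]
      have hz := BlocksCharsC.selfCent_mem_center (x := w)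
      refine MonoidAlgebra.ext (Finsupp.ext fun g => ?_)
      simp only [MonoidAlgebra.coeff_single_mul_apply, MonoidAlgebra.coeff_mul_single_apply]
      rw [← Subgroup.mem_center_iff.1 (inv_mem hz) g, one_mul, mul_one]
    rw [hTj, T_eq (Characters.isClassFunction_of_isIrr χ.2)
      (E := extRing K (F * E)) (by rw [← map_mul, hFE]) hab2, tau_single_mul,
      ← Finset.sum_subset (Finset.subset_univ
        (Finset.univ.map ⟨((↑) : K → G), Subtype.val_injective⟩)) (fun g _ hg => by
          rw [CfsgLib.Blocks.coeff_extRing_notMem _ _ fun hgK => hg (Finset.mem_map.2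
            ⟨⟨g, hgK⟩, Finset.mem_univ _, rfl⟩)]
          simp), Finset.sum_map]
    have hexp := Characters.classFunction_expansion
      (CfsgLib.Blocks.isClassFunction_translate (χ : G → ℂ)
        (Characters.isClassFunction_of_isIrr χ.2) w)
    calc _ = ∑ c : K, ((F * E).coeff c : ℂ) * ∑ ξ : IrrCharacter K,
          BlocksCharsC.secCoef w (χ : G → ℂ) ξ * (ξ : K → ℂ) c := by
          refine Finset.sum_congr rfl fun c _ => ?_
          rw [Function.Embedding.coeFn_mk, CfsgLib.Blocks.coeff_extRing_coe]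
          congr 1
          have := congrFun hexp c
          simpa [Finset.sum_apply, BlocksCharsC.secCoef] using this
      _ = ∑ ξ : IrrCharacter K, BlocksCharsC.secCoef w (χ : G → ℂ) ξ *
          tau M (ξ : K → ℂ) (F * E) := by
          simp only [Finset.mul_sum, tau_apply]
          rw [Finset.sum_comm]
          exact Finset.sum_congr rfl fun ξ _ => Finset.sum_congr rfl fun c _ => by ring
      _ = d χ * μ := by
          simp only [h1, mul_ite, mul_zero, d, Finset.sum_mul, hμ]
          rw [← Finset.sum_filter]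
          exact Finset.sum_congr (by ext; simp) fun ξ _ => rfl
  · rw [hC, ← hj', T_delta_emb K hj'j, T_delta hFE hrFE, h2, hμ]

end CfsgLib.FreeInertia
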