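import Cfsg.Agent.FreeInertia.Count
import Cfsg.Agent.InertialQuotient.Setup

/-!
# The counts for the inertial quotient of an induced block

`counts_of_induced` is `counts` for the automorphisms of the defect group induced by the stabilizer
of an inducing block of its centralizer.
-/

set_option autoImplicit false
set_option linter.unusedSectionVars false
set_option linter.style.haveILetI false
set_option maxHeartbeats 800000

namespace CfsgLib.FreeInertia

open Cfsg CfsgLib.BlockPairs
open CfsgLib.Blocks (Res)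

universe u

theorem counts_of_induced {G : Type u} [Group G] [Finite G] {p : ℕ} [Fact p.Prime]
    {M : Ideal AlgInt} (hM : Cfsg.IsPModular p M) {B : Set (IrrCharacter G)}
    (hB : Cfsg.IsPBlock M B) {P : Subgroup G} (hPD : Cfsg.IsDefectGroup p M B P) (hP1 : P ≠ ⊥)
    (hPab : ∀ x ∈ P, ∀ y ∈ P, x * y = y * x)
    {c : Set (IrrCharacter (Subgroup.centralizer (P : Set G)))}
    (hc : Cfsg.IsInducedBlock M (Subgroup.centralizer (P : Set G)) c B) {T : Subgroup G}
    (hT : ∀ g : G, g ∈ T ↔ (g ∈ Subgroup.normalizer (P : Set G) ∧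
      Cfsg.StabilizesBlock (Subgroup.centralizer (P : Set G)) c g))
    {e : ℕ} (he : (Subgroup.centralizer (P : Set G)).relIndex T = e)
    (hfree : ∀ g ∈ T, ∀ x ∈ P, x ≠ 1 → g * x * g⁻¹ = x →
      g ∈ Subgroup.centralizer (P : Set G))
    (hcyc : IsCyclic P → Cfsg.blockRank p B = e) :
    Nat.card B ≤ e + (Nat.card P - 1) / e ∧ Cfsg.blockRank p B ≤ e ∧
      (Nat.card B = e + (Nat.card P - 1) / e ↔ Cfsg.blockRank p B = e) ∧
      (e ≤ 3 → Nat.card B = e + (Nat.card P - 1) / e ∧ Cfsg.blockRank p B = e) := by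
  classical
  haveI := Fintype.ofFinite G
  haveI := CfsgLib.Blocks.IsPModular.isPrime hM
  haveI := CfsgLib.Blocks.charP_res hM
  haveI := isAlgClosed_res hM
  have hab := InertialQuotient.le_centralizer_of_comm hPab
  obtain ⟨-, hmax⟩ := InertialQuotient.maxPair_of_induced hM hPD hab hc
  set eP := sblk M (Subgroup.centralizer (P : Set G)) c with heP
  have hTs : T = stab ⊤ P eP := InertialQuotient.stab_eq hc.1 hT
  subst hTs
  letI : CommGroup P :=
    { (inferInstance : Group P) with
      mul_comm := fun a b => Subtype.ext (hPab a a.2 b b.2) }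
  let θ : stab ⊤ P eP →* MulAut P :=
    P.normalizerMonoidHom.comp (Subgroup.inclusion stab_le_normalizer)
  have hθ : ∀ (t : stab ⊤ P eP) (a : P), ((θ t a : P) : G) = (t : G) * (a : G) * (t : G)⁻¹ :=
    fun t a => rfl
  have hker : θ.ker = (Subgroup.centralizer (P : Set G)).subgroupOf (stab ⊤ P eP) := by
    ext t
    rw [MonoidHom.mem_ker, MonoidHom.comp_apply, ← MonoidHom.mem_ker,
      Subgroup.normalizerMonoidHom_ker]
    rfl
  have hcard : Nat.card θ.range = e := by
    rw [← Subgroup.index_ker, hker]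
    exact he
  haveI : Fintype θ.range := Fintype.ofFinite _
  have hsemi : ∀ σ ∈ θ.range, ∀ a : P, a ≠ 1 → σ a = a → σ = 1 := by
    rintro _ ⟨t, rfl⟩ a ha hfix
    refine (MonoidHom.mem_ker (f := θ)).1 ?_
    rw [hker]
    refine hfree t t.2 a a.2 (fun h => ha (Subtype.ext h)) ?_
    rw [← hθ, hfix]
  have hA1 : 1 < Nat.card P := by
    by_contra h
    exact hP1 (Subgroup.eq_bot_of_card_le P (not_lt.1 h))
  have h := counts (MulEquiv.refl P) (E := θ.range) hM hB hmax hab hfree
    (by rintro _ ⟨t, rfl⟩; exact ⟨t, t.2, fun a => hθ t a⟩)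
    (fun t ht => ⟨θ ⟨t, ht⟩, ⟨⟨t, ht⟩, rfl⟩, fun a => hθ ⟨t, ht⟩ a⟩) hsemi hA1
    (fun hpr => by
      rw [hcard]
      haveI := Fact.mk hpr
      exact hcyc (isCyclic_of_prime_card (p := Nat.card P) rfl))
  rw [hcard] at h
  exact h

end CfsgLib.FreeInertia
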