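import Cfsg.Agent.BlocksFrobenius.Dual
import Cfsg.Agent.Star.Height
import Cfsg.Agent.Characters.Generalized
import Mathlib.FieldTheory.Minpoly.Field
import Mathlib.Algebra.Polynomial.Inductions

/-!
# Functions on a finite abelian group with coefficients in a subring

`gs R` is the ring of the functions whose Fourier coefficients lie in `R`.  For `R = rl M`, the
rational numbers in the local ring at `M`, a function with values outside the local ideal is
invertible in it (`inv_mem_rl`).
-/

set_option autoImplicit false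
set_option linter.unusedSectionVars false
set_option linter.style.haveILetI false

namespace CfsgLib.FreeInertia

open Cfsg Polynomial
open CfsgLib.Blocks (localRing)
open scoped ComplexConjugate

universe u

variable {A : Type u} [CommGroup A] [Fintype A]

/-- The Fourier coefficient. -/
noncomputable def coef (f : A → ℂ) (l : A →* ℂˣ) : ℂ :=
  (Nat.card A : ℂ)⁻¹ * ∑ a, f a * conj (l a : ℂ)

instance : Finite (A →* ℂˣ) := BlocksFrobenius.finite_dual

noncomputable instance : Fintype (A →* ℂˣ) := Fintype.ofFinite _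

theorem conj_lin (l : A →* ℂˣ) (a : A) : conj (l a : ℂ) = (l a⁻¹ : ℂ) := by
  rw [BlocksFrobenius.conj_apply, MonoidHom.inv_apply, map_inv]

theorem isIntegral_lin (l : A →* ℂˣ) (a : A) : IsIntegral ℤ (l a : ℂ) :=
  IsIntegral.of_pow (orderOf_pos a) (by
    rw [← Units.val_pow_eq_pow_val, ← map_pow, pow_orderOf_eq_one, map_one, Units.val_one]
    exact isIntegral_one)

/-- Fourier inversion. -/
theorem sum_coef (f : A → ℂ) (a : A) : ∑ l : A →* ℂˣ, coef f l * (l a : ℂ) = f a := by
  classical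
  simp only [coef, mul_assoc, ← Finset.mul_sum, Finset.sum_mul]
  rw [Finset.sum_comm]
  simp only [← Finset.mul_sum, conj_lin, ← Units.val_mul, ← map_mul,
    BlocksFrobenius.sum_dual_apply, inv_mul_eq_one]
  rw [Finset.sum_eq_single a (fun b _ hb => by rw [if_neg hb, mul_zero]) (by simp), if_pos rfl,
    ← mul_assoc, mul_comm, ← mul_assoc, mul_inv_cancel₀ (Nat.cast_ne_zero.2 Nat.card_pos.ne'),
    one_mul]

/-- The coefficients determine the expansion. -/
theorem coef_sum (c : (A →* ℂˣ) → ℂ) (l : A →* ℂˣ) :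
    coef (fun a => ∑ k : A →* ℂˣ, c k * (k a : ℂ)) l = c l := by
  classical
  simp only [coef, Finset.sum_mul]
  rw [Finset.sum_comm]
  simp only [mul_assoc, ← Finset.mul_sum, conj_lin, map_inv, ← MonoidHom.inv_apply,
    ← Units.val_mul, ← MonoidHom.mul_apply, BlocksFrobenius.sum_apply]
  rw [Finset.sum_eq_single l (fun b _ hb => by rw [if_neg (mul_inv_eq_one.not.2 hb), mul_zero])
    (by simp), if_pos (mul_inv_cancel l), mul_comm (c l), ← mul_assoc, inv_mul_cancel₀ (Nat.cast_ne_zero.2 Nat.card_pos.ne'), one_mul]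

theorem coef_add (f g : A → ℂ) (l : A →* ℂˣ) : coef (f + g) l = coef f l + coef g l := by
  simp only [coef, Pi.add_apply, add_mul, Finset.sum_add_distrib, mul_add]

theorem coef_neg (f : A → ℂ) (l : A →* ℂˣ) : coef (-f) l = -coef f l := by
  simp only [coef, Pi.neg_apply, neg_mul, Finset.sum_neg_distrib, mul_neg]

theorem coef_const (c : ℂ) (l : A →* ℂˣ) [Decidable (l = 1)] :
    coef (fun _ => c) l = if l = 1 then c else 0 := by
  classical
  have h := coef_sum (fun k => if k = (1 : A →* ℂˣ) then c else 0) l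
  simp at h
  rw [h]
  split_ifs <;> rfl

theorem coef_mul (f g : A → ℂ) (l : A →* ℂˣ) :
    coef (f * g) l = ∑ k : A →* ℂˣ, coef f k * coef g (k⁻¹ * l) := by
  rw [← coef_sum (fun l => ∑ k : A →* ℂˣ, coef f k * coef g (k⁻¹ * l)) l]
  congr 1
  funext a
  rw [Pi.mul_apply, ← sum_coef f a, ← sum_coef g a, Finset.sum_mul_sum]
  simp only [Finset.sum_mul]
  conv_rhs => rw [Finset.sum_comm]
  refine Finset.sum_congr rfl fun k _ => ?_
  refine Fintype.sum_equiv (Equiv.mulLeft k) _ _ fun j => ?_
  simp only [Equiv.coe_mulLeft]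
  rw [show k⁻¹ * (k * j) = j from inv_mul_cancel_left k j, MonoidHom.mul_apply, Units.val_mul]
  ring

theorem coef_conj (f : A → ℂ) (l : A →* ℂˣ) :
    coef (fun a => conj (f a)) l = conj (coef f l⁻¹) := by
  simp only [coef, map_mul, map_inv₀, map_natCast, map_sum]
  congr 1
  refine Finset.sum_congr rfl fun a _ => ?_
  rw [Complex.conj_conj, BlocksFrobenius.conj_apply]

theorem coef_comp (f : A → ℂ) (σ : MulAut A) (l : A →* ℂˣ) :
    coef (fun a => f (σ a)) l = coef f (l.comp σ.symm.toMonoidHom) := by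
  simp only [coef]
  congr 1
  exact Fintype.sum_equiv σ.toEquiv _ _ fun a => by simp

open Classical in
theorem coef_indicator (S : Subgroup A) (c : ℂ) (l : A →* ℂˣ) :
    coef (fun a => if a ∈ S then c else 0) l =
      if S ≤ l.ker then c * ((Nat.card S : ℂ) / (Nat.card A : ℂ)) else 0 := by
  haveI := Fintype.ofFinite S
  have h1 : ∑ a, (if a ∈ S then c else 0) * conj (l a : ℂ) =
      c * ∑ a : S, ((l⁻¹.comp S.subtype) a : ℂ) := by
    rw [Finset.mul_sum]
    simp only [ite_mul, zero_mul]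
    rw [← Finset.sum_filter]
    refine Finset.sum_subtype _ (by simp) _ |>.trans (Finset.sum_congr rfl fun a _ => ?_)
    rw [BlocksFrobenius.conj_apply]
    rfl
  rw [coef, h1, BlocksFrobenius.sum_apply]
  have h2 : l⁻¹.comp S.subtype = 1 ↔ S ≤ l.ker := by
    constructor
    · intro h a ha
      have := DFunLike.congr_fun h ⟨a, ha⟩
      simpa [MonoidHom.mem_ker] using this
    · intro h
      refine MonoidHom.ext fun a => ?_
      simp [MonoidHom.mem_ker.1 (h a.2)]
  by_cases h : S ≤ l.ker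
  · rw [if_pos h, if_pos (h2.2 h)]
    ring
  · rw [if_neg h, if_neg (fun h' => h (h2.1 h'))]
    ring

/-- The functions with coefficients in `R`. -/
noncomputable def gs (A : Type u) [CommGroup A] [Fintype A] (R : Subring ℂ) :
    Subring (A → ℂ) where
  carrier := {f | ∀ l, coef f l ∈ R}
  zero_mem' l := by simp [coef]
  one_mem' l := by
    classical
    rw [show (1 : A → ℂ) = fun _ => (1 : ℂ) from rfl, coef_const]
    split_ifs
    · exact R.one_mem
    · exact R.zero_mem
  add_mem' hf hg l := by rw [coef_add]; exact R.add_mem (hf l) (hg l)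
  neg_mem' hf l := by rw [coef_neg]; exact R.neg_mem (hf l)
  mul_mem' hf hg l := by
    rw [coef_mul]
    exact R.sum_mem fun k _ => R.mul_mem (hf k) (hg _)

theorem mem_gs {R : Subring ℂ} {f : A → ℂ} : f ∈ gs A R ↔ ∀ l, coef f l ∈ R := Iff.rfl

theorem gs_mono {R R' : Subring ℂ} (h : R ≤ R') : gs A R ≤ gs A R' := fun _ hf l => h (hf l)

theorem const_mem {R : Subring ℂ} {c : ℂ} (hc : c ∈ R) : (fun _ => c) ∈ gs A R := fun l => by
  classical
  rw [coef_const]
  split_ifs
  · exact hc
  · exact R.zero_mem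

theorem isGen_mem (R : Subring ℂ) {f : A → ℂ} (hf : Cfsg.IsGeneralizedCharacter A f) :
    f ∈ gs A R := fun l => by
  obtain ⟨z, hz⟩ := Characters.classInner_gen hf
    (Characters.isGen_of_isIrr (Characters.isIrr_linChar l))
  rw [show coef f l = Cfsg.classInner f (fun a => (l a : ℂ)) from rfl, hz]
  exact intCast_mem R z

theorem comp_mem {R : Subring ℂ} {f : A → ℂ} (hf : f ∈ gs A R) (σ : MulAut A) :
    (fun a => f (σ a)) ∈ gs A R := fun l => by rw [coef_comp]; exact hf _

theorem conj_mem {R : Subring ℂ} (hR : ∀ x ∈ R, conj x ∈ R) {f : A → ℂ} (hf : f ∈ gs A R) :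
    (fun a => conj (f a)) ∈ gs A R := fun l => by rw [coef_conj]; exact hR _ (hf _)

/-- A function killed by a polynomial with invertible constant term is invertible. -/
theorem inv_mem_of_poly (R : Subring ℂ) {f : A → ℂ} (hf : f ∈ gs A R) (q : ℂ[X])
    (hq : ∀ j, q.coeff j ∈ R) (h0 : q.coeff 0 ≠ 0) (hinv : (q.coeff 0)⁻¹ ∈ R)
    (hroot : ∀ a, q.eval (f a) = 0) : (fun a => (f a)⁻¹) ∈ gs A R := by
  have hdiv : ∀ a, f a * q.divX.eval (f a) = -q.coeff 0 := fun a => by
    have h := hroot a
    rw [← q.X_mul_divX_add, eval_add, eval_mul, eval_X, eval_C] at h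
    linear_combination h
  have hpoly : ∀ r : ℂ[X], (∀ j, r.coeff j ∈ R) → (fun a => r.eval (f a)) ∈ gs A R := by
    intro r hr
    have h : (fun a => r.eval (f a)) =
        ∑ j ∈ Finset.range (r.natDegree + 1), (fun _ => r.coeff j) * f ^ j := by
      funext a
      simp [eval_eq_sum_range, Finset.sum_apply]
    rw [h]
    exact sum_mem fun j _ => mul_mem (const_mem (hr j)) (pow_mem hf j)
  have h2 : (fun a => (f a)⁻¹) = fun a => (C (-(q.coeff 0)⁻¹) * q.divX).eval (f a) := by
    funext a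
    have h1 := hdiv a
    rw [eval_mul, eval_C]
    refine inv_eq_of_mul_eq_one_right ?_
    rw [mul_left_comm, h1, neg_mul_neg, inv_mul_cancel₀ h0]
  rw [h2]
  exact hpoly _ fun j => by
    rw [coeff_C_mul, coeff_divX]
    exact R.mul_mem (R.neg_mem hinv) (hq _)

/-- The rational numbers, as a subring of `ℂ`. -/
noncomputable def ratRing : Subring ℂ := (Rat.castHom ℂ).range

variable (M : Ideal AlgInt) [M.IsPrime]

/-- The rational numbers in the local ring. -/
noncomputable def rl : Subring ℂ := ratRing ⊓ localRing M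

variable {M}

theorem mem_rl {x : ℂ} : x ∈ rl M ↔ (∃ r : ℚ, (r : ℂ) = x) ∧ Cfsg.MemLocalRing M x := Iff.rfl

theorem conj_rl {x : ℂ} (hx : x ∈ rl M) : conj x = x := by
  obtain ⟨⟨r, rfl⟩, -⟩ := mem_rl.1 hx
  exact map_ratCast _ r

theorem mem_gs_rl {f : A → ℂ} :
    f ∈ gs A (rl M) ↔ f ∈ gs A ratRing ∧ f ∈ gs A (localRing M) :=
  ⟨fun h => ⟨fun l => (h l).1, fun l => (h l).2⟩, fun h l => ⟨h.1 l, h.2 l⟩⟩

theorem conj_mem_rl {f : A → ℂ} (hf : f ∈ gs A (rl M)) :
    (fun a => conj (f a)) ∈ gs A (rl M) :=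
  conj_mem (fun x hx => by rwa [conj_rl hx]) hf

variable {p : ℕ} (hM : Cfsg.IsPModular p M)

theorem value_mem {f : A → ℂ} (hf : f ∈ gs A (localRing M)) (a : A) :
    Cfsg.MemLocalRing M (f a) := by
  rw [← sum_coef f a]
  exact (localRing M).sum_mem fun l _ =>
    (localRing M).mul_mem (hf l) (Blocks.memLocalRing_of_isIntegral (isIntegral_lin l a))

include hM in
/-- The values are congruent to the value at one when the group is a p-group. -/
theorem value_cong {f : A → ℂ} (hf : f ∈ gs A (localRing M)) (hA : IsPGroup p A) (a : A) :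
    Cfsg.MemLocalIdeal M (f a - f 1) := by
  rw [← sum_coef f a, ← sum_coef f 1, ← Finset.sum_sub_distrib]
  refine Blocks.memLocalIdeal_sum _ fun l _ => ?_
  rw [← mul_sub, map_one, Units.val_one]
  refine Blocks.memLocalIdeal_mul_left (hf l) ?_
  obtain ⟨k, hk⟩ := hA a
  set z : localRing M := ⟨(l a : ℂ), Blocks.memLocalRing_of_isIntegral (isIntegral_lin l a)⟩
  have hz : z ^ (p ^ k) = 1 := Subtype.ext (by
    show (l a : ℂ) ^ (p ^ k) = 1
    rw [← Units.val_pow_eq_pow_val, ← map_pow, hk, map_one, Units.val_one])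
  have h := Blocks.red_eq_one_of_pow_eq_one hM hz
  rw [← map_one (Blocks.red M), ← sub_eq_zero, ← map_sub, Blocks.red_eq_zero_iff] at h
  simpa [z] using h

theorem memLocalRing_inv {x : ℂ} (h : Cfsg.MemLocalRing M x) (hx : ¬ Cfsg.MemLocalIdeal M x) :
    Cfsg.MemLocalRing M x⁻¹ := by
  obtain ⟨y, hy⟩ : ∃ y : localRing M, (⟨x, h⟩ : localRing M) * y = 1 := by
    refine IsUnit.exists_right_inv ?_
    by_contra hn
    exact hx ((Blocks.not_isUnit_iff _).1 hn)
  have hy' : x * (y : ℂ) = 1 := congrArg Subtype.val hy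
  rw [inv_eq_of_mul_eq_one_right hy']
  exact y.2

theorem ne_zero_of_not_ideal {x : ℂ} (hx : ¬ Cfsg.MemLocalIdeal M x) : x ≠ 0 :=
  fun h => hx (h ▸ Blocks.memLocalIdeal_zero)

theorem not_ideal_mul {x y : ℂ} (hx : Cfsg.MemLocalRing M x) (_hy : Cfsg.MemLocalRing M y)
    (hx' : ¬ Cfsg.MemLocalIdeal M x) (hy' : ¬ Cfsg.MemLocalIdeal M y) :
    ¬ Cfsg.MemLocalIdeal M (x * y) := fun h => by
  have h2 := Blocks.memLocalIdeal_mul_left (memLocalRing_inv hx hx') h
  rw [← mul_assoc, inv_mul_cancel₀ (ne_zero_of_not_ideal hx'), one_mul] at h2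
  exact hy' h2

/-- Inverses in the ring of functions with rational coefficients in the local ring. -/
theorem inv_mem_rl {f : A → ℂ} (hf : f ∈ gs A (rl M)) (hu : ∀ a, ¬ Cfsg.MemLocalIdeal M (f a)) :
    (fun a => (f a)⁻¹) ∈ gs A (rl M) := by
  classical
  obtain ⟨hQ, hL⟩ := mem_gs_rl.1 hf
  have hne : ∀ a, f a ≠ 0 := fun a => ne_zero_of_not_ideal (hu a)
  refine mem_gs_rl.2 ⟨?_, ?_⟩
  · have halg : ∀ a, IsIntegral ℚ (f a) := fun a => by
      rw [← sum_coef f a]
      refine IsIntegral.sum _ fun l _ => IsIntegral.mul ?_ (isIntegral_lin l a).tower_top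
      obtain ⟨r, hr⟩ := hQ l
      rw [← hr]
      exact isIntegral_algebraMap (x := r)
    set q : ℚ[X] := ∏ a, minpoly ℚ (f a) with hq
    refine inv_mem_of_poly _ hQ (q.map (algebraMap ℚ ℂ))
      (fun j => ⟨q.coeff j, by simp⟩) ?_ ⟨(q.coeff 0)⁻¹, by simp⟩ fun a => ?_
    · rw [coeff_map, _root_.map_ne_zero, hq, coeff_zero_prod, Finset.prod_ne_zero_iff]
      exact fun a _ => minpoly.coeff_zero_ne_zero (halg a) (hne a)
    · rw [eval_map, ← aeval_def, hq, map_prod, Finset.prod_eq_zero (Finset.mem_univ a)]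
      exact minpoly.aeval ℚ (f a)
  · set q : (localRing M)[X] := ∏ a, (X - C ⟨f a, value_mem hL a⟩) with hq
    refine inv_mem_of_poly _ hL (q.map (localRing M).subtype)
      (fun j => by rw [coeff_map]; exact (q.coeff j).2) ?_ ?_ fun a => ?_
    · rw [coeff_map, hq, coeff_zero_prod, map_prod, Finset.prod_ne_zero_iff]
      intro a _
      simp [hne a]
    · rw [coeff_map, hq, coeff_zero_prod, map_prod, ← Finset.prod_inv_distrib]
      refine (localRing M).prod_mem fun a _ => ?_
      simp only [coeff_sub, coeff_X_zero, coeff_C_zero, zero_sub, map_neg, Subring.subtype_apply,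
        inv_neg]
      exact (localRing M).neg_mem (memLocalRing_inv (value_mem hL a) (hu a))
    · rw [hq, Polynomial.map_prod, eval_prod, Finset.prod_eq_zero (Finset.mem_univ a)]
      simp

end CfsgLib.FreeInertia
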