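import Cfsg.Agent.FreeInertia.Local
import Cfsg.Agent.InertialQuotient.RankTransport
import Cfsg.Agent.BlockPairs.Local
import Cfsg.Agent.BlockPairing.RegularInner

/-!
# The idempotent of a block with abelian defect group and freely acting stabilizer

`exists_source` gives an idempotent `i` fixed by `P` whose image at every subgroup lies below the
maximal pair and whose image at `P` has a trace prime to `p`.
-/

set_option autoImplicit false
set_option linter.unusedSectionVars false
set_option linter.style.haveILetI false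
set_option maxHeartbeats 800000

namespace CfsgLib.FreeInertia

open Cfsg CfsgLib.BlockPairs CfsgLib.Star
open CfsgLib.Blocks (localRing Res setIdemO extRing memLocalRing_blockCoeff
  isBlockUnion_of_isPBlock)
open CfsgLib.InertialQuotient (emb_gblk maxPair_below below_of_blockHas isBlock_below
  le_centralizer_of_le)
open scoped ComplexConjugate

universe u

theorem br_br_sup {k : Type*} [Field k] {G : Type u} [Group G] (R Q : Subgroup G) (a : GA k G) :
    br Q (br R a) = br (R ⊔ Q) a := by
  refine ga_ext fun g => ?_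
  by_cases hQ : g ∈ Subgroup.centralizer (Q : Set G)
  · rw [br_coeff_mem _ _ hQ]
    by_cases hR : g ∈ Subgroup.centralizer (R : Set G)
    · rw [br_coeff_mem _ _ hR, br_coeff_mem _ _ (by rw [centralizer_sup]; exact ⟨hR, hQ⟩)]
    · rw [br_coeff_not_mem _ _ hR,
        br_coeff_not_mem _ _ (by rw [centralizer_sup]; exact fun h => hR h.1)]
  · rw [br_coeff_not_mem _ _ hQ,
      br_coeff_not_mem _ _ (by rw [centralizer_sup]; exact fun h => hQ h.2)]

variable {G : Type u} [Group G] [Fintype G] {M : Ideal AlgInt} [M.IsPrime] {p : ℕ}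
  [hp : Fact p.Prime] (hM : Cfsg.IsPModular p M)

include hM

/-- A member of a block has an idempotent of the block with trace prime to `p`. -/
theorem exists_idem_unit {B : Set (IrrCharacter G)} (hB : Cfsg.IsPBlock M B) {χ : IrrCharacter G}
    (hχ : χ ∈ B) (hreg : ∀ φ ∈ B, ∀ g, ¬ p ∣ orderOf g → (φ : G → ℂ) g = (χ : G → ℂ) g) :
    ∃ E : MonoidAlgebra (localRing M) G, E * E = E ∧
      gblk M B * rho M G E = rho M G E ∧ ¬ Cfsg.MemLocalIdeal M (tau M (χ : G → ℂ) E) := by
  classical
  by_contra hcon
  push Not at hcon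
  have hBu := isBlockUnion_of_isPBlock hB
  set F : MonoidAlgebra (localRing M) G :=
    (setIdemO M B (memLocalRing_blockCoeff hBu) : MonoidAlgebra (localRing M) G) with hF
  have hFc : ∀ a, Commute a F := fun a =>
    Subring.mem_center_iff.1 (setIdemO M B (memLocalRing_blockCoeff hBu)).2 a
  have hFF : F * F = F := by
    rw [hF, ← Subring.coe_mul]
    congr 1
    exact CfsgLib.Blocks.ctr_ext_omegaO fun ψ => by
      rw [map_mul, CfsgLib.Blocks.omegaO_setIdemO]; split_ifs <;> simp
  have hvan : ∀ y : G, ¬ p ∣ orderOf y → Cfsg.MemLocalIdeal M ((χ : G → ℂ) y) := by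
    intro y hy
    set L := Subgroup.zpowers y
    haveI := Fintype.ofFinite L
    haveI : IsMulCommutative L := inferInstance
    haveI := BlocksFrobenius.finite_dual (A := L)
    haveI := Fintype.ofFinite (L →* ℂˣ)
    have hL : ¬ p ∣ Nat.card L := by rwa [Nat.card_zpowers]
    have hinv : Cfsg.MemLocalRing M ((Nat.card L : ℂ)⁻¹) :=
      CfsgLib.Blocks.memLocalRing_natCast_inv hM hL
    have hroot : ∀ (l : L →* ℂˣ) (x : L), Cfsg.MemLocalRing M (l x : ℂ) := fun l x =>
      CfsgLib.Blocks.memLocalRing_of_isIntegral (IsIntegral.of_pow (orderOf_pos x) (by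
        rw [← Units.val_pow_eq_pow_val, ← map_pow, pow_orderOf_eq_one, map_one, Units.val_one]
        exact isIntegral_one))
    have hterm : ∀ l : L →* ℂˣ, Cfsg.MemLocalIdeal M
        ((Nat.card L : ℂ)⁻¹ * ∑ x : L, (χ : G → ℂ) (x : G) * (l x⁻¹ : ℂ)) := by
      intro l
      let cl : L → localRing M := fun x => ⟨(Nat.card L : ℂ)⁻¹, hinv⟩ * ⟨(l x⁻¹ : ℂ), hroot l x⁻¹⟩
      set ε : MonoidAlgebra (localRing M) G :=
        ∑ x : L, MonoidAlgebra.single (x : G) (cl x) with hε
      have hεε : ε * ε = ε := by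
        rw [hε, Finset.sum_mul_sum]
        simp only [MonoidAlgebra.single_mul_single, ← Subgroup.coe_mul]
        have hcl : ∀ x y : L, cl x * cl y =
            ⟨(Nat.card L : ℂ)⁻¹, hinv⟩ * cl (x * y) := fun x y => Subtype.ext (by
          simp only [cl, Subring.coe_mul, mul_inv_rev, map_mul, Units.val_mul]
          ring)
        simp only [hcl]
        calc _ = ∑ _x : L, ∑ y : L,
              MonoidAlgebra.single (y : G) (⟨(Nat.card L : ℂ)⁻¹, hinv⟩ * cl y) := by
              refine Finset.sum_congr rfl fun x _ => ?_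
              exact Fintype.sum_equiv (Equiv.mulLeft x) _ _ fun y => rfl
          _ = _ := by
              rw [Finset.sum_const, Finset.smul_sum, Finset.card_univ]
              refine Finset.sum_congr rfl fun y _ => ?_
              rw [MonoidAlgebra.smul_single]
              congr 1
              refine Subtype.ext ?_
              rw [nsmul_eq_mul, Subring.coe_mul, Subring.coe_mul, ← mul_assoc]
              rw [show ((Fintype.card L : localRing M) : ℂ) = (Nat.card L : ℂ) from by
                rw [Nat.card_eq_fintype_card]; exact map_natCast (localRing M).subtype _]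
              rw [mul_inv_cancel₀ (Nat.cast_ne_zero.2 Nat.card_pos.ne'), one_mul]
      have hidem : F * ε * (F * ε) = F * ε := by rw [(hFc ε).mul_mul_mul_comm, hFF, hεε]
      have h := hcon (F * ε) hidem (by rw [← gblk_eq hBu, ← hF, ← map_mul, ← mul_assoc, hFF])
      rw [hF, tau_mul_setIdemO χ hBu, if_pos hχ, hε, map_sum] at h
      convert h using 1
      rw [Finset.mul_sum]
      refine Finset.sum_congr rfl fun x _ => ?_
      rw [tau_apply, Finset.sum_eq_single (x : G) (fun b _ hb => by simp [Ne.symm hb]) (by simp)]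
      simp only [MonoidAlgebra.coeff_single, Finsupp.single_eq_same, cl, Subring.coe_mul]
      ring
    have hy1 : ∑ l : L →* ℂˣ, (l ⟨y, Subgroup.mem_zpowers y⟩ : ℂ) *
        ((Nat.card L : ℂ)⁻¹ * ∑ x : L, (χ : G → ℂ) (x : G) * (l x⁻¹ : ℂ)) = (χ : G → ℂ) y := by
      simp only [Finset.mul_sum]
      rw [Finset.sum_comm, Finset.sum_eq_single (⟨y, Subgroup.mem_zpowers y⟩ : L)]
      · simp only [map_inv, Units.val_inv_eq_inv_val]
        rw [Finset.sum_congr rfl (g := fun _ => (Nat.card L : ℂ)⁻¹ * (χ : G → ℂ) y)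
          (fun l _ => by
            have := Units.ne_zero (l ⟨y, Subgroup.mem_zpowers y⟩)
            field_simp),
          Finset.sum_const, Finset.card_univ, ← Nat.card_eq_fintype_card,
          BlocksFrobenius.card_dual, nsmul_eq_mul, ← mul_assoc,
          mul_inv_cancel₀ (Nat.cast_ne_zero.2 Nat.card_pos.ne'), one_mul]
      · intro x _ hx
        rw [Finset.sum_congr rfl (g := fun l : L →* ℂˣ => ((Nat.card L : ℂ)⁻¹ * (χ : G → ℂ) (x : G)) *
          (l (⟨y, Subgroup.mem_zpowers y⟩ * x⁻¹) : ℂ)) (fun l _ => by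
            rw [map_mul, Units.val_mul]; ring), ← Finset.mul_sum,
          BlocksFrobenius.sum_dual_apply, if_neg fun h => hx (mul_inv_eq_one.1 h).symm, mul_zero]
      · simp
    rw [← hy1]
    exact CfsgLib.Blocks.memLocalIdeal_sum _ fun l _ =>
      CfsgLib.Blocks.memLocalIdeal_mul_left (hroot l _) (hterm l)
  obtain ⟨φ, hφ, hmin, -⟩ := BlockPairing.exists_minimal (p := p) hB
  refine BlockPairing.regSum_not_mem_of_minimal hM hB hφ hmin hχ ?_
  haveI := Fintype.ofFinite (ConjClasses G)
  rw [BlockPairing.regSum_eq_classes]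
  refine CfsgLib.Blocks.memLocalIdeal_sum _ fun C _ => ?_
  split_ifs with hC
  · exact CfsgLib.Blocks.memLocalIdeal_zero
  · refine CfsgLib.Blocks.memLocalIdeal_mul_left (CfsgLib.Blocks.memLocalRing_centralChar _ _) ?_
    rw [← Characters.character_inv (Characters.isCharacter_of_isIrr φ.2),
      hreg φ hφ _ (by rwa [orderOf_inv])]
    exact hvan _ (by rwa [orderOf_inv])

variable [CharP (Res M) p] [IsAlgClosed (Res M)]
  {B : Set (IrrCharacter G)} {P : Subgroup G} {eP : GA (Res M) G}
  (hB : Cfsg.IsPBlock M B) (hmax : IsMaxPair p ⊤ (gblk M B) P eP)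
  (hab : P ≤ Subgroup.centralizer (P : Set G))
  (hfree : ∀ t ∈ stab ⊤ P eP, ∀ x ∈ P, x ≠ 1 → t * x * t⁻¹ = x →
    t ∈ Subgroup.centralizer (P : Set G))

include hB hmax hab hfree

/-- Away from one the block below is nilpotent. -/
theorem nilpBelow {w : G} (hw : w ∈ P) (hw1 : w ≠ 1) : NilpBelow M p P eP w := by
  refine (InertialQuotient.nilp_centralizer_iff (isBlock_gblk hB) hmax hab
    (le_below hmax hw)).2 ?_
  rintro g ⟨hg, hgw⟩
  exact hfree g hg w hw hw1 (mul_inv_eq_iff_eq_mul.2
    (Subgroup.mem_centralizer_iff.1 hgw w (Subgroup.mem_zpowers w)).symm)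

/-- The maximal pair in the centralizer of a non-trivial subgroup, with nilpotent blocks below. -/
theorem exists_local' {Q : Subgroup G} (hQ : Q ≤ P) (hQ1 : Q ≠ ⊥)
    [Fintype ↥(Subgroup.centralizer (Q : Set G))] :
    ∃ (b : Set (IrrCharacter ↥(Subgroup.centralizer (Q : Set G))))
      (e : GA (Res M) ↥(Subgroup.centralizer (Q : Set G))),
      Cfsg.IsPBlock M b ∧ sblk M (Subgroup.centralizer (Q : Set G)) b = below p P eP Q ∧
      IsMaxPair p ⊤ (gblk M b) (P.subgroupOf (Subgroup.centralizer (Q : Set G))) e ∧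
      (P.subgroupOf (Subgroup.centralizer (Q : Set G)) ≤ Subgroup.centralizer
        ((P.subgroupOf (Subgroup.centralizer (Q : Set G)) : Subgroup _) : Set _)) ∧
      (∀ v ∈ P.subgroupOf (Subgroup.centralizer (Q : Set G)),
        NilpBelow M p (P.subgroupOf (Subgroup.centralizer (Q : Set G))) e v) ∧
      ∀ R, R ≤ P.subgroupOf (Subgroup.centralizer (Q : Set G)) →
        emb (Subgroup.centralizer (Q : Set G)).subtype
            (below p (P.subgroupOf (Subgroup.centralizer (Q : Set G))) e R) =
          below p P eP (Q ⊔ R.map (Subgroup.centralizer (Q : Set G)).subtype) ∧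
        (Subgroup.centralizer (R : Set ↥(Subgroup.centralizer (Q : Set G)))).map
            (Subgroup.centralizer (Q : Set G)).subtype =
          Subgroup.centralizer
            ((Q ⊔ R.map (Subgroup.centralizer (Q : Set G)).subtype : Subgroup G) : Set G) := by
  set K := Subgroup.centralizer (Q : Set G) with hK
  have hinj := K.subtype_injective
  have hPK : P ≤ K := le_centralizer_of_le hab hQ
  have hCP : Subgroup.centralizer (P : Set G) ≤ K :=
    Subgroup.centralizer_le (SetLike.coe_subset_coe.2 hQ)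
  have hmK := maxPair_below hB hmax hab hQ
  have hPm : (P.subgroupOf K).map K.subtype = P := Subgroup.map_subgroupOf_eq_of_le hPK
  have htop : (⊤ : Subgroup K).map K.subtype = K := by
    rw [← MonoidHom.range_eq_map, K.range_subtype]
  obtain ⟨b, hb, hbe⟩ := exists_eq_sblk (M := M) (isBlock_below hmax hQ)
  obtain ⟨e, he⟩ := exists_emb_of_isSupp (φ := K.subtype) hinj (z := eP)
    ((isBlock_centralizer hmax.1.1).supp.mono (by rw [K.range_subtype]; exact hCP))
  have hbh : BlockHas p ⊤ (gblk M b) (P.subgroupOf K) e := by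
    refine (blockHas_map_iff (φ := K.subtype) hinj).1 ?_
    rw [htop, hPm, he, emb_gblk, ← hbe]
    exact hmK.1
  have hd : IsDefectGrp p ⊤ (gblk M b) (P.subgroupOf K) := by
    rw [← isDefectGroup_gblk_iff hb, isDefectGroup_subgroupOf_iff hb hPK, ← hbe]
    exact (hmK.isDefectGrp (isBlock_below hmax hQ)).1
  have hmax' := isMaxPair_of_defect hd hbh
  have hab' : P.subgroupOf K ≤ Subgroup.centralizer ((P.subgroupOf K : Subgroup K) : Set K) :=
    fun a ha => Subgroup.mem_centralizer_iff.2 fun c hc =>
      Subtype.ext (Subgroup.mem_centralizer_iff.1 (hab ha) c hc)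
  refine ⟨b, e, hb, hbe.symm, hmax', hab', fun v hv => ?_, fun R hR => ?_⟩
  · refine (InertialQuotient.nilp_centralizer_iff (isBlock_gblk hb) hmax' hab'
      (le_below hmax' hv)).2 ?_
    rintro x ⟨hx, -⟩
    have hxG : (x : G) ∈ stab ⊤ P eP := by
      have h := (map_mem_stab_iff (φ := K.subtype) hinj).2 hx
      rw [htop, hPm, he, mem_stab, Subgroup.coe_subtype] at h
      exact mem_stab.2 ⟨⟨trivial, h.1.2⟩, h.2⟩
    obtain ⟨⟨q, hq⟩, hq1'⟩ := Q.ne_bot_iff_exists_ne_one.1 hQ1
    have hq1 : q ≠ 1 := fun h => hq1' (Subtype.ext h)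
    have hxP := hfree _ hxG q (hQ hq) hq1 (mul_inv_eq_iff_eq_mul.2
      (Subgroup.mem_centralizer_iff.1 x.2 q hq).symm)
    exact Subgroup.mem_centralizer_iff.2 fun c hc =>
      Subtype.ext (Subgroup.mem_centralizer_iff.1 hxP c hc)
  · have hRm : R.map K.subtype ≤ P := hPm ▸ Subgroup.map_mono hR
    have hC : (Subgroup.centralizer (R : Set K)).map K.subtype =
        Subgroup.centralizer ((Q ⊔ R.map K.subtype : Subgroup G) : Set G) := by
      rw [centralizer_sup, ← cent_top R, map_cent hinj, htop]
    refine ⟨?_, hC⟩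
    have hbR := isBlock_below hmax' hR
    have hb' : IsBlock (Subgroup.centralizer ((Q ⊔ R.map K.subtype : Subgroup G) : Set G))
        (emb K.subtype (below p (P.subgroupOf K) e R)) := hC ▸ (isBlock_map_iff hinj).2 hbR
    have hh := (blockHas_map_iff (φ := K.subtype) hinj).2 (maxPair_below hb hmax' hab' hR).1
    rw [hC, hPm, he] at hh
    exact (below_of_blockHas hB hmax hab (sup_le hQ hRm) hb' hh).symm

/-- The idempotent. -/
theorem exists_source (hP1 : P ≠ ⊥) [Fintype ↥(Subgroup.centralizer (P : Set G))] :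
    ∃ i : GA (Res M) G, i * i = i ∧ IsFixed P i ∧
      (∀ Q, Q ≤ P → br Q i * below p P eP Q = br Q i) ∧
      ∃ (η : IrrCharacter ↥(Subgroup.centralizer (P : Set G)))
        (j : GA (Res M) ↥(Subgroup.centralizer (P : Set G))),
        j * j = j ∧ emb (Subgroup.centralizer (P : Set G)).subtype j = br P i ∧
        ¬ Cfsg.MemLocalIdeal M (T M (η : ↥(Subgroup.centralizer (P : Set G)) → ℂ) 1 j) := by
  classical
  set K := Subgroup.centralizer (P : Set G) with hK
  obtain ⟨b, e, hb, hbe, hmax', hab', hnilp, -⟩ := exists_local' hM hB hmax hab hfree le_rfl hP1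
  have hd : Cfsg.IsDefectGroup p M b (P.subgroupOf K) := by
    rw [isDefectGroup_gblk_iff hb]
    exact (hmax'.isDefectGrp (isBlock_gblk hb)).1
  have htopc : Subgroup.centralizer ((Subgroup.zpowers (1 : K) : Subgroup K) : Set K) = ⊤ := by
    rw [InertialQuotient.centralizer_zpowers, eq_top_iff]
    exact fun g _ => Subgroup.mem_centralizer_singleton_iff.2 (by simp)
  have hn : Nilp p ⊤ (gblk M b) := by
    have h := hnilp 1 (one_mem _)
    rw [NilpBelow, InertialQuotient.below_of_centralizer_top hb hmax' hab'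
      (Subgroup.zpowers_le.2 (one_mem _)) htopc, htopc] at h
    exact h
  obtain ⟨ξ, hξ, -, hreg, -, -⟩ := nilp_members hM hb hd hab' hn
  obtain ⟨E, hE, hbE, hEu⟩ := exists_idem_unit hM hb hξ hreg
  set j₀ := rho M K E with hj₀
  have hj₀₀ : j₀ * j₀ = j₀ := by rw [hj₀, ← map_mul, hE]
  set f := emb K.subtype j₀ with hf
  have hff : f * f = f := by rw [hf, ← map_mul, hj₀₀]
  have hfs : IsSupp K f := fun g hg => by
    by_contra hn
    exact hg (emb_coeff_not_mem _ _ (by rwa [K.range_subtype]))
  have hfA : f ∈ sub (⊤ : Subgroup G) P := ⟨isSupp_top f, fun u hu => ga_ext fun g => by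
    rw [conjA_coeff]
    by_cases hg : g ∈ K
    · rw [show u⁻¹ * g * u = g by
        rw [mul_assoc, ← Subgroup.mem_centralizer_iff.1 hg u hu, inv_mul_cancel_left]]
    · rw [hfs.coeff_eq_zero hg, hfs.coeff_eq_zero]
      intro hm
      apply hg
      have h2 := Subgroup.mem_centralizer_iff.1 hm u hu
      rw [show g = u * (u⁻¹ * g * u) * u⁻¹ by group, h2, mul_inv_cancel_right]
      exact hm⟩
  have hbP : br P f = f := br_eq_self hfs
  have hPp : IsPGroup p P := hmax.1.1.2.1
  obtain ⟨s, hs⟩ := exists_decomp hfA hff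
  have hfix : ∀ i ∈ s, IsFixed P i := fun i hi => (hs.1 i hi).1.2
  choose pre hpre using fun i : GA (Res M) G => exists_emb_of_isSupp (φ := K.subtype)
    K.subtype_injective (z := br P i) ((isSupp_br P i).mono (by rw [K.range_subtype]))
  have hpre2 : ∀ i ∈ s, pre i * pre i = pre i := fun i hi =>
    emb_injective (φ := K.subtype) K.subtype_injective
      (by rw [map_mul, hpre, br_idem hPp (hfix i hi) (hs.1 i hi).2.1])
  have hpre0 : ∀ a ∈ s, ∀ c ∈ s, a ≠ c → pre a * pre c = 0 := fun a ha c hc hne =>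
    emb_injective (φ := K.subtype) K.subtype_injective
      (by rw [map_mul, hpre, hpre, ← br_mul hPp (hfix a ha) (hfix c hc), hs.2.1 a ha c hc hne,
        br_zero, map_zero])
  have hsum : ∑ i ∈ s, pre i = j₀ := emb_injective (φ := K.subtype) K.subtype_injective (by
    rw [map_sum, Finset.sum_congr rfl fun i _ => hpre i, ← br_sum, hs.2.2, hbP])
  have hT : T M (ξ : K → ℂ) 1 j₀ = tau M (ξ : K → ℂ) E := by
    rw [T_eq (Characters.isClassFunction_of_isIrr ξ.2) hE
      ⟨by rw [← MonoidAlgebra.one_def]; exact Commute.one_left _, rfl⟩,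
      ← MonoidAlgebra.one_def, one_mul]
  obtain ⟨i, hi, hiu⟩ : ∃ i ∈ s, ¬ Cfsg.MemLocalIdeal M (T M (ξ : K → ℂ) 1 (pre i)) := by
    by_contra h
    push Not at h
    refine hEu ?_
    rw [← hT, ← hsum, T_sum (Characters.isClassFunction_of_isIrr ξ.2) 1 s pre hpre2 hpre0
      (fun a _ => conjA_one_left _)]
    exact CfsgLib.Blocks.memLocalIdeal_sum _ fun a ha => h a ha
  have hne : br P i ≠ 0 := by
    intro h0
    refine hiu ?_
    rw [show pre i = 0 from emb_injective (φ := K.subtype) K.subtype_injective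
      (by rw [hpre, h0, map_zero]), T_zero (Characters.isClassFunction_of_isIrr ξ.2)]
    exact CfsgLib.Blocks.memLocalIdeal_zero
  have heP : below p P eP P = eP := le_unique (InertialQuotient.le_below' hmax le_rfl) Le.refl'
  have hfe : eP * f = f := by
    rw [hf, ← heP, ← hbe, ← emb_gblk, ← map_mul, hbE]
  have hfi : br P i * eP = br P i := by
    have h1 : br P i = f * br P i := by
      conv_lhs => rw [← (hs.mul_mem_eq hi).1]
      rw [br_mul hPp hfA.2 (hfix i hi), hbP]
    have hcomm : eP * br P i = br P i * eP := mul_comm_of_fixed_supp (P := cent ⊤ P)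
      hmax.1.1.2.2.fixed ((isSupp_br P i).mono (le_inf le_top le_rfl))
    rw [← hcomm]
    conv_lhs => rw [h1, ← mul_assoc, hfe, ← h1]
  have hsplit : Split p P P ⊥ :=
    { hQE := le_rfl
      hSE := bot_le
      isP := hPp
      isP' := fun s hs => by
        rw [Subgroup.mem_bot] at hs
        rw [hs, orderOf_one]
        exact hp.out.not_dvd_one
      comm := fun q _ s hs => by
        rw [Subgroup.mem_bot] at hs
        rw [hs]
        exact Commute.one_right q
      gen := fun x hx => ⟨x, hx, 1, one_mem _, mul_one x⟩ }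
  exact ⟨i, (hs.1 i hi).2.1, hfix i hi, fun Q hQ => br_mul_eq_of_le hsplit (hs.1 i hi) hmax.1.1
    hmax.1.1.fixed_self hfi hne hQ (InertialQuotient.le_below' hmax hQ),
    ξ, pre i, hpre2 i hi, hpre i, by convert hiu using 3⟩

end CfsgLib.FreeInertia
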